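import Cfsg.Agent.H1.N1r

/-! The class equation in the dihedral case. -/

set_option autoImplicit false

namespace Cfsg.Agent.H5.ArD

open Cfsg.Agent.H1.N1 Finset

set_option synthInstance.maxSize 2000 in
theorem a2 {k n a : ℕ} (hk : 0 < k) (hn : 7 ≤ n) (ha : 3 ≤ a) (e1 : 4 * k * (n * a) + 3 = 3 * (n * a) + 4 * k * a + 6 * k * n)
    (e2 : n * a + 4 * k = 4 * k ^ 2 + 1 + 2 * k * a) : 4 * k * (n * a) = 168 := by
  have e3 : 6 * k + 5 * a + 3 * n = 2 * (n * a) + 6 := Nat.eq_of_mul_eq_mul_left (show 0 < 2 * k by omega) (by nlinarith)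
  have b1 : 7 * a ≤ n * a := Nat.mul_le_mul_right _ hn
  have b2 : n * 3 ≤ n * a := Nat.mul_le_mul_left _ ha
  have b3 : k * 3 ≤ k * a := Nat.mul_le_mul_left _ ha
  have b4 : k < 6 := by nlinarith
  obtain ⟨rfl, rfl, rfl⟩ := (by decide +kernel : ∀ k < 6, ∀ n < 43, ∀ a < 19, 7 ≤ n → 3 ≤ a → n * a + 4 * k = 4 * k ^ 2 + 1 + 2 * k * a →
    6 * k + 5 * a + 3 * n = 2 * (n * a) + 6 → k = 2 ∧ n = 7 ∧ a = 3) k b4 n (by omega) a (by omega) hn ha e2 e3
  rfl

theorem a3 {k n a : ℕ} (hk : 0 < k) (hn : 7 ≤ n) (ha : 7 ≤ a) (e1 : 2 * k * (n * a) + 3 = 3 * (n * a) + 4 * k * a + 4 * k * n)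
    (e2 : n * a + 2 * k = 4 * k ^ 2 + 1) : False := by
  have e3 : 6 * k + 2 * a + 2 * n = n * a + 3 := Nat.eq_of_mul_eq_mul_left (show 0 < 2 * k by omega) (by nlinarith)
  have b1 : 7 * a ≤ n * a := Nat.mul_le_mul_right _ hn
  have b2 : n * 7 ≤ n * a := Nat.mul_le_mul_left _ ha
  have b4 : k < 5 := by nlinarith
  interval_cases k <;> omega

theorem a4 {k n a : ℕ} (hk : 0 < k) (hn : n = 7 ∨ 13 ≤ n) (ha : 5 ≤ a)
    (e1 : k * (n * a) + 3 = 3 * (n * a) + 4 * k * a + 3 * k * n) (e2 : n * a + 3 * k = 4 * k ^ 2 + 1 + k * a) : False := by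
  have e3 : 12 * k + 7 * a + 3 * n = n * a + 9 := Nat.eq_of_mul_eq_mul_left hk (by nlinarith)
  rcases hn with rfl | hn
  · omega
  obtain ⟨n, rfl⟩ := Nat.exists_eq_add_of_le (show 7 ≤ n by omega)
  obtain ⟨a, rfl⟩ := Nat.exists_eq_add_of_le (show 3 ≤ a by omega)
  have e4 : n * a = 12 * (k + 1) := by nlinarith
  have b1 : 6 * a ≤ n * a := Nat.mul_le_mul_right _ (by omega)
  have b2 : n * 2 ≤ n * a := Nat.mul_le_mul_left _ (by omega)
  have b3 : k * 2 ≤ k * a := Nat.mul_le_mul_left _ (by omega)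
  have b4 : k < 17 := by nlinarith
  obtain rfl : n = 12 * (k + 1) / a := by rw [← e4, Nat.mul_div_cancel _ (by omega)]
  exact (by decide +kernel : ∀ k < 17, ∀ a < 40, 2 ≤ a →
    (7 + 12 * (k + 1) / a) * (3 + a) + 3 * k ≠ 4 * k ^ 2 + 1 + k * (3 + a)) k b4 a (by omega) (by omega) e2

theorem a5 {k n a : ℕ} (hk : 0 < k) (hn : n = 7 ∨ 13 ≤ n) (ha : 11 ≤ a)
    (e1 : 2 * k * (n * a) + 15 = 15 * (n * a) + 20 * k * a + 12 * k * n) (e2 : n * a + 2 * k = 4 * k ^ 2 + 1) : False := by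
  have e3 : 30 * k + 10 * a + 6 * n = n * a + 15 := Nat.eq_of_mul_eq_mul_left (show 0 < 2 * k by omega) (by nlinarith)
  rcases hn with rfl | hn
  · omega
  obtain ⟨n, rfl⟩ := Nat.exists_eq_add_of_le (show 10 ≤ n by omega)
  obtain ⟨a, rfl⟩ := Nat.exists_eq_add_of_le (show 6 ≤ a by omega)
  have e4 : n * a = 30 * k + 45 := by nlinarith
  have b1 : 3 * a ≤ n * a := Nat.mul_le_mul_right _ (by omega)
  have b2 : n * 5 ≤ n * a := Nat.mul_le_mul_left _ (by omega)
  have b4 : k < 46 := by nlinarith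
  obtain rfl : a = (30 * k + 45) / n := by rw [← e4, Nat.mul_div_cancel_left _ (by omega)]
  exact (by decide +kernel : ∀ k < 46, ∀ n < 300, 3 ≤ n →
    (10 + n) * (6 + (30 * k + 45) / n) + 2 * k ≠ 4 * k ^ 2 + 1) k b4 n (by omega) (by omega) e2

theorem cc4 {k n a l u c : ℕ} (hk : 4 ≤ k) (hn : n = 7 ∨ 13 ≤ n) (ha : a = 5 ∨ 9 ≤ a) (hl : 5 ≤ l) (hu : 0 < u)
    (hc : c = 0 ∨ c * l = 4 * k)
    (e1 : k * l * (n * a * (l * u + 1)) + 12 * k * (n * a) * (l * u) + 3 * l =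
      3 * l * (n * a * (l * u + 1)) + 4 * k * l * a * (l * u + 1) + 3 * k * l * n * (l * u + 1))
    (e2 : n * a * (l * u + 1) + 3 * k = 4 * k ^ 2 + 1 + k * a + c * (l * u)) : False := by
  obtain ⟨ε, h1, h2⟩ : ∃ ε, ε ≤ 1 ∧ c * l = 4 * k * ε := hc.elim (fun e => ⟨0, by simp [e]⟩) fun e => ⟨1, by simp [e]⟩
  have e3 : n * a * (l * u + 1) + 12 * (n * a) * u + 9 =
      12 * k + 3 * a + 12 * ε * u + 4 * a * (l * u + 1) + 3 * n * (l * u + 1) :=
    Nat.eq_of_mul_eq_mul_left (Nat.mul_pos (show 0 < k by omega) (show 0 < l by omega)) (by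
      zify at *; linear_combination e1 + 3 * l * e2 + 3 * l * u * h2)
  by_cases h : n = 7 ∧ a = 5
  · obtain ⟨rfl, rfl⟩ := h
    rcases hc with rfl | hc
    · have : ∀ k q : ℕ, 7 * 5 * q + 3 * k ≠ 4 * k ^ 2 + 1 + k * 5 + 0 := fun k q e => by
        have := congrArg (Nat.cast : ℕ → ZMod 5) e
        push_cast at this
        generalize (k : ZMod 5) = x at this
        generalize (q : ZMod 5) = y at this
        revert x y; decide
      exact this k _ (by simpa using e2)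
    obtain rfl : ε = 1 := by rw [hc] at h2; exact (Nat.eq_of_mul_eq_mul_left (by omega) (h2.symm.trans (mul_one _).symm))
    have b1 : l < 68 := by nlinarith
    have b2 : c < 35 := by
      by_contra! b
      have : 35 * (l * u) ≤ c * (l * u) := Nat.mul_le_mul_right _ b
      nlinarith
    have e4 : u * (68 - l) = 2 * k + 2 := by zify [b1.le] at *; linarith
    obtain rfl : k = c * l / 4 := by omega
    obtain rfl : u = (2 * (c * l / 4) + 2) / (68 - l) := by rw [← e4, Nat.mul_div_cancel _ (by omega)]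
    exact (by decide +kernel : ∀ l < 68, ∀ c < 35, 5 ≤ l → 7 * 5 * (l * ((2 * (c * l / 4) + 2) / (68 - l)) + 1) + 3 * (c * l / 4) ≠
      4 * (c * l / 4) ^ 2 + 1 + c * l / 4 * 5 + c * (l * ((2 * (c * l / 4) + 2) / (68 - l)))) l b1 c b2 hl e2
  have d1 : 4 * a + 3 * n + 6 ≤ n * a := by
    rcases hn with rfl | hn <;> rcases ha with rfl | ha
    · simp at h
    · omega
    · omega
    · nlinarith
  have d2 : (4 * a + 3 * n + 6) * (l * u + 1) ≤ n * a * (l * u + 1) := Nat.mul_le_mul_right _ d1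
  have d3 : ε * u ≤ u := by nlinarith
  have d4 : n * a * 1 ≤ n * a * u := Nat.mul_le_mul_left _ hu
  have d5 : 35 * u ≤ n * a * u := Nat.mul_le_mul_right _ (by nlinarith)
  have d6 : 7 * a ≤ n * a := Nat.mul_le_mul_right _ (by omega)
  generalize l * u + 1 = q at *
  have d7 : q ≤ 2 * k := by nlinarith
  have d8 : 11 * (n * a) ≤ 12 * k := by nlinarith
  have d9 : 11 * (n * a) * q ≤ 12 * k * (2 * k) := Nat.mul_le_mul d8 d7
  nlinarith

theorem sum_le {ι : Type*} (n : ι → ℕ) (s : Finset ι) (h : ∀ i ∈ s, 1 < n i) : ∑ i ∈ s, (n i - 1) + 1 ≤ ∏ i ∈ s, n i := by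
  classical
  induction s using Finset.induction_on with
  | empty => simp
  | insert a s ha ih =>
    rw [sum_insert ha, prod_insert ha]
    have := ih fun i hi => h i (mem_insert_of_mem hi)
    obtain ⟨m, hm⟩ := Nat.exists_eq_add_of_lt (h a (mem_insert_self _ _))
    have h1 : (m + 1) * 1 ≤ (m + 1) * ∏ i ∈ s, n i := Nat.mul_le_mul_left _ (by omega)
    rw [hm]; simp only [Nat.add_sub_cancel]; nlinarith

set_option maxHeartbeats 1600000 in
theorem arD : ArD := fun ι s e n k N h hk ⟨i, hi, e3⟩ hN e1 e2 => by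
  classical
  have n7 : n i = 7 ∨ 13 ≤ n i := by have := e3 ▸ h.dvd i hi; have := h.odd i hi; have := h.gt i hi; omega
  have tl : ∀ j ∈ s, ((e j : ℚ) + 1)⁻¹ ≤ (e j : ℚ)⁻¹ - (n j : ℚ)⁻¹ * (e j : ℚ)⁻¹ := fun j hj => by
    have a1 : (e j : ℚ) + 1 ≤ n j := by
      have := Nat.le_of_dvd (by have := h.gt j hj; omega) (h.dvd j hj); have := h.gt j hj; norm_cast; omega
    have a2 : (2 : ℚ) ≤ e j := by exact_mod_cast h.two j hj
    have a3 := inv_anti₀ (by positivity) a1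
    have : ((e j : ℚ) + 1)⁻¹ = (e j : ℚ)⁻¹ - ((e j : ℚ) + 1)⁻¹ * (e j : ℚ)⁻¹ := by field_simp; ring
    rw [this]; gcongr
  have t0 : ∀ j ∈ s, 0 ≤ (e j : ℚ)⁻¹ - (n j : ℚ)⁻¹ * (e j : ℚ)⁻¹ := fun j hj => le_trans (by positivity) (tl j hj)
  have ti : (2 / 7 : ℚ) ≤ (e i : ℚ)⁻¹ - (n i : ℚ)⁻¹ * (e i : ℚ)⁻¹ := by
    have : (n i : ℚ)⁻¹ ≤ 7⁻¹ := inv_anti₀ (by norm_num) (by norm_cast; omega)
    rw [e3]; norm_num at this ⊢; linarith
  have N0 : (0 : ℚ) < (N : ℚ)⁻¹ := by have := h.pos; positivity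
  have k4 : ∀ m : ℕ, 0 < m → m ≤ k → (k : ℚ)⁻¹ ≤ (m : ℚ)⁻¹ := fun m h1 h2 => inv_anti₀ (by positivity) (by exact_mod_cast h2)
  have sub : ∀ j ∈ s, ∀ l ∈ s, i ≠ j → i ≠ l → j ≠ l → 4 ≤ k ∧ 2 / 7 + ((e j : ℚ)⁻¹ - (n j : ℚ)⁻¹ * (e j : ℚ)⁻¹) +
      ((e l : ℚ)⁻¹ - (n l : ℚ)⁻¹ * (e l : ℚ)⁻¹) < 9 / 16 := fun j hj l hl a1 a2 a3 => by
    have b1 : 4 ≤ k := by
      by_contra! b
      have hj' : j ∈ s.erase i := mem_erase.2 ⟨a1.symm, hj⟩
      have c1 := sum_le n ((s.erase i).erase j) fun x hx => h.gt x (mem_of_mem_erase (mem_of_mem_erase hx))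
      have c2 : n l ≤ ∏ x ∈ (s.erase i).erase j, n x := single_le_prod' (f := n)
        (fun x hx => (h.gt x (mem_of_mem_erase (mem_of_mem_erase hx))).le) (by simp [a2.symm, a3.symm, hl])
      have c3 : 2 * rho s e n ≤ ∑ x ∈ s.erase i, (n x - 1) := by
        rw [rho, mul_sum]
        refine (sum_le_sum fun x hx => ?_).trans (sum_le_sum_of_subset fun x hx => ?_)
        · exact (Nat.mul_le_mul_right _ (h.two x (mem_filter.1 hx).1)).trans (Nat.mul_div_le _ _)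
        · refine mem_erase.2 ⟨?_, (mem_filter.1 hx).1⟩
          rintro rfl; have := (mem_filter.1 hx).2; omega
      rw [← add_sum_erase _ _ hj'] at c3
      rw [← mul_prod_erase _ _ hi, ← mul_prod_erase _ _ hj'] at e2
      have c4 := h.gt j hj; have c5 := h.odd j hj; have c6 := h.gt l hl; have c7 := h.odd l hl
      generalize ∏ x ∈ (s.erase i).erase j, n x = B at *
      obtain ⟨a, ha⟩ := Nat.exists_eq_add_of_le (show 3 ≤ n j by omega)
      obtain ⟨B, rfl⟩ := Nat.exists_eq_add_of_le (show 3 ≤ B by omega)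
      have c8 : 7 * (n j * (3 + B)) ≤ n i * (n j * (3 + B)) := Nat.mul_le_mul_right _ (by omega)
      rw [ha] at c3 c8 e2
      have c9 : 2 * rho s e n ≤ 4 + a + B := by omega
      interval_cases k <;> nlinarith
    refine ⟨b1, ?_⟩
    have := sum_le_sum_of_subset_of_nonneg (s := {i, j, l}) (t := s) (by simp [insert_subset_iff, *]) fun x hx _ => t0 x hx
    rw [sum_insert (by simp [*]), sum_pair a3, ← tau, e1] at this
    have := k4 4 (by decide) b1
    norm_num at this; linarith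
  have t5 : ∀ j ∈ s, e j ≤ 4 → (1 / 5 : ℚ) ≤ (e j : ℚ)⁻¹ - (n j : ℚ)⁻¹ * (e j : ℚ)⁻¹ := fun j hj a =>
    le_trans (by rw [one_div]; exact inv_anti₀ (by positivity) (by norm_cast; omega)) (tl j hj)
  have sm : ∀ j ∈ s, ∀ l ∈ s, i ≠ j → i ≠ l → e j ≤ 4 → e l ≤ 4 → j = l := fun j hj l hl a1 a2 a3 a4 => of_not_not fun a5 => by
    have := (sub j hj l hl a1 a2 a5).2; have := t5 j hj a3; have := t5 l hl a4; linarith
  have k0 : (k : ℚ) ≠ 0 := by positivity
  have n0 : ∀ j ∈ s, (n j : ℚ) ≠ 0 := fun j hj => by have := h.gt j hj; positivity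
  have kN : (N : ℚ)⁻¹ ≤ (k : ℚ)⁻¹ / 4 := by
    rw [div_eq_mul_inv, ← mul_inv]
    refine inv_anti₀ (by positivity) ?_
    have : 0 < ∏ x ∈ s, n x := prod_pos fun x hx => (h.gt x hx).le
    norm_cast; nlinarith
  have tu : (e i : ℚ)⁻¹ - (n i : ℚ)⁻¹ * (e i : ℚ)⁻¹ ≤ 1 / 3 := by
    have : (0 : ℚ) ≤ (n i : ℚ)⁻¹ := by positivity
    rw [e3]; norm_num
  by_cases c1 : ∃ j ∈ s, ∃ l ∈ s, i ≠ j ∧ i ≠ l ∧ e j ≤ 4 ∧ 4 < e l
  · obtain ⟨j, hj, l, hl, a1, a2, a3, a4⟩ := c1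
    have a5 : j ≠ l := by rintro rfl; omega
    obtain ⟨b1, b2⟩ := sub j hj l hl a1 a2 a5
    obtain rfl : s = {i, j, l} := Subset.antisymm (fun x hx => by
      by_cases c : e x ≤ 4
      · have := sm j hj x hx a1; grind
      · simp [h.four x hx l hl (by omega) a4]) (by simp [insert_subset_iff, *])
    have e4 : e j = 4 := by
      have c1 := h.two j hj
      have c2 := tl j hj
      have c3 := t0 l hl
      have c4 : e j = 3 → (n j : ℚ)⁻¹ ≤ 7⁻¹ := fun c => inv_anti₀ (by norm_num) (by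
        have := c ▸ h.dvd j hj; have := h.odd j hj; have := h.gt j hj; norm_cast; omega)
      interval_cases e j
      · norm_num at c2 b2; linarith
      · have := c4 rfl; norm_num at this b2; linarith
      · rfl
    obtain ⟨u, hu⟩ := h.dvd l hl
    have hq : n l = e l * u + 1 := by have := h.gt l hl; omega
    have u0 : 0 < u := Nat.pos_of_ne_zero (by rintro rfl; have := h.gt l hl; omega)
    obtain ⟨v, hv⟩ := h.dvd j hj
    have c1 := h.gt j hj
    have hv4 : n j = 4 * v + 1 := by rw [e4] at hv; omega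
    have c2 := n0 i hi; have c3 := n0 j hj; have c4 := n0 l hl
    have c5 : (e l : ℚ) ≠ 0 := by positivity
    rw [rho, sum_filter] at e2
    rw [tau, hN] at e1
    rw [sum_insert (by simp [*]), sum_pair a5, prod_insert (by simp [*]), prod_pair a5, e3, e4] at e1 e2
    rw [hu, hv, e4, Nat.mul_div_cancel_left _ (by omega), Nat.mul_div_cancel_left _ (by omega)] at e2
    obtain ⟨c, c6, c7⟩ : ∃ c, (c = 0 ∨ c * e l = 4 * k) ∧ 4 * k * (if 2 ∣ e l then u else 0) = c * (e l * u) := by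
      split_ifs with c
      · obtain ⟨c, hc⟩ := h.ev l hl c
        exact ⟨c, Or.inr (by rw [hc, mul_comm]), by rw [hc]; ring⟩
      · exact ⟨0, by simp⟩
    refine (cc4 (a := n j) b1 n7 (by omega) a4 u0 c6 ?_ ?_).elim
    · rw [← hq]
      have : ((e l * u : ℕ) : ℚ) = n l - 1 := by rw [hq]; simp
      qify; push_cast at this e1; rw [this]; field_simp at e1; linear_combination e1 / 2
    · simp only [show ¬ 2 ∣ 3 by decide, show 2 ∣ 4 by decide, if_true, if_false] at e2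
      rw [← hq, ← c7]
      zify at e2 hv4 ⊢
      linear_combination e2 - k * hv4
  obtain ⟨j, hj, a1, rfl⟩ : ∃ j ∈ s, i ≠ j ∧ s = {i, j} := by
    obtain ⟨j, hj, a⟩ : ∃ j ∈ s, i ≠ j := by
      by_contra! a
      rw [show s = {i} from Subset.antisymm (fun x hx => by simp [a x hx]) (by simpa), tau, sum_singleton] at e1
      linarith
    refine ⟨j, hj, a, Subset.antisymm (fun x hx => ?_) (by simp [insert_subset_iff, *])⟩
    have := sm j hj x hx a; have := h.four j hj x hx; grind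
  rw [rho, sum_filter] at e2
  rw [tau] at e1
  rw [sum_pair a1] at e1 e2
  rw [prod_pair a1] at hN e2
  have c1 := h.two j hj
  have c2 : e j < 6 := by
    by_contra! c
    have : (e j : ℚ)⁻¹ ≤ 6⁻¹ := inv_anti₀ (by norm_num) (by exact_mod_cast c)
    have : (0 : ℚ) < (n j : ℚ)⁻¹ * (e j : ℚ)⁻¹ := by have := h.gt j hj; positivity
    norm_num at *; linarith
  obtain ⟨v, hv⟩ := h.dvd j hj
  have c3 := h.gt j hj
  have c4 := h.odd j hj
  have c5 := n0 i hi; have c6 := n0 j hj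
  rw [hv, Nat.mul_div_cancel_left _ (by omega), e3] at e2
  rw [hN, e3] at e1
  push_cast at e1
  field_simp at e1
  have hq : n j = e j * v + 1 := by omega
  interval_cases e j <;> simp only [show ¬ 2 ∣ 3 by decide, show 2 ∣ 4 by decide, show ¬ 2 ∣ 5 by decide, dvd_refl, if_true,
    if_false] at e2
  · exact hN ▸ a2 (n := n i) (a := n j) hk (by omega) (by omega) (by qify; push_cast at e1; linarith) (by zify at e2 hq ⊢; linear_combination e2 - 2 * k * hq)
  · exact (a3 (n := n i) (a := n j) hk (by omega) (by omega) (by qify; push_cast at e1; linarith) (by omega)).elim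
  · exact (a4 (a := n j) hk n7 (by omega) (by qify; push_cast at e1; linarith) (by zify at e2 hq ⊢; linear_combination e2 - k * hq)).elim
  · exact (a5 (a := n j) hk n7 (by omega) (by qify; push_cast at e1; linarith) (by omega)).elim

end Cfsg.Agent.H5.ArD
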