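import Mathlib

set_option autoImplicit false

/-! Local computations with root subgroups (strings of length two and three). -/

namespace Cfsg.Agent.H5.CT1

variable {G K : Type*} [Group G] [Field K]

/-- additive family -/
def IsAdd (f : K → G) : Prop := ∀ t u, f (t + u) = f t * f u

theorem IsAdd.zero {f : K → G} (h : IsAdd f) : f 0 = 1 := by
  have := h 0 0
  rw [add_zero] at this
  exact left_eq_mul.mp this

theorem IsAdd.neg {f : K → G} (h : IsAdd f) (t : K) : f (-t) = (f t)⁻¹ := by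
  have := h (-t) t
  rw [neg_add_cancel, h.zero] at this
  exact eq_inv_of_mul_eq_one_left this.symm

theorem IsAdd.mul {f : K → G} (h : IsAdd f) (t u : K) : f t * f u = f (t + u) := (h t u).symm

theorem IsAdd.mul' {f : K → G} (h : IsAdd f) (t u : K) (g : G) : f t * (f u * g) = f (t + u) * g := by
  rw [← mul_assoc, h.mul]

theorem a2 {b c : K → G} (hb : IsAdd b) (hc : IsAdd c) (φ ψ : G →* G) (e : K) (he : e * e = 1)
    (h1 : ∀ u, φ (b u) = b u * c (e * u)) (h2 : ∀ u, φ (c u) = c u)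
    (h3 : ∀ u, ψ (b u) = b u) (h4 : ∀ u, ψ (c u) = c u * b (-(e * u)))
    (hbc : ∀ t u, b t * c u = c u * b t) :
    (∀ u, φ (ψ (φ (b u))) = c (e * u)) ∧ (∀ u, φ (ψ (φ (c u))) = b (-(e * u))) := by
  constructor
  · intro u
    rw [h1, map_mul, h3, h4, ← mul_assoc, hbc, mul_assoc, hb.mul]
    have : u + -(e * (e * u)) = 0 := by rw [← mul_assoc, he]; ring
    rw [this, hb.zero, mul_one, h2]
  · intro u
    rw [h2, h4, map_mul, h2, h1, ← mul_assoc, ← hbc, mul_assoc, hc.mul]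
    have : u + e * -(e * u) = 0 := by rw [mul_neg, ← mul_assoc, he]; ring
    rw [this, hc.zero, mul_one]

theorem b2s {b c d : K → G} (hb : IsAdd b) (hc : IsAdd c) (hd : IsAdd d) (φ ψ : G →* G)
    (e e' : K) (he : e * e = 1) (he' : e' * e' = 1)
    (h1 : ∀ u, φ (b u) = b u * (c (e * u) * d (e * e' * u)))
    (h2 : ∀ u, φ (c u) = c u * d (2 * e' * u)) (h3 : ∀ u, φ (d u) = d u)
    (h4 : ∀ u, ψ (b u) = b u) (h5 : ∀ u, ψ (c u) = c u * b (-(2 * e * u)))
    (h6 : ∀ u, ψ (d u) = d u * (c (-(e' * u)) * b (e * e' * u)))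
    (hbc : ∀ t u, b t * c u = c u * b t) (hbd : ∀ t u, b t * d u = d u * b t)
    (hcd : ∀ t u, c t * d u = d u * c t) :
    (∀ u, φ (ψ (φ (b u))) = d (e * e' * u)) ∧ (∀ u, φ (ψ (φ (c u))) = c (-u)) ∧
      (∀ u, φ (ψ (φ (d u))) = b (e * e' * u)) := by
  have hbc' : ∀ t u g, c u * (b t * g) = b t * (c u * g) := by
    intro t u g; rw [← mul_assoc, ← hbc, mul_assoc]
  have hbd' : ∀ t u g, d u * (b t * g) = b t * (d u * g) := by
    intro t u g; rw [← mul_assoc, ← hbd, mul_assoc]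
  have hcd' : ∀ t u g, d u * (c t * g) = c t * (d u * g) := by
    intro t u g; rw [← mul_assoc, ← hcd, mul_assoc]
  have F1 : ∀ x y z, φ (b x * (c y * d z)) =
      b x * (c (e * x + y) * d (e * e' * x + 2 * e' * y + z)) := by
    intro x y z
    simp only [map_mul, h1, h2, h3, mul_assoc, hcd', hc.mul', hd.mul, add_assoc]
  have F2 : ∀ x y z, ψ (b x * (c y * d z)) =
      b (x + (-(2 * e * y) + e * e' * z)) * (c (y + -(e' * z)) * d z) := by
    intro x y z
    simp only [map_mul, h4, h5, h6, mul_assoc]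
    rw [← hbc, hbd', hbc', hbc', ← hcd]
    simp only [hb.mul', hc.mul']
  have B : ∀ x, b x = b x * (c 0 * d 0) := by intro x; simp [hc.zero, hd.zero]
  have C : ∀ x, c x = b 0 * (c x * d 0) := by intro x; simp [hb.zero, hd.zero]
  have D : ∀ x, d x = b 0 * (c 0 * d x) := by intro x; simp [hb.zero, hc.zero]
  have E : ∀ x y z x' y' z', x = x' → y = y' → z = z' →
      b x * (c y * d z) = b x' * (c y' * d z') := by
    intro x y z x' y' z' h1 h2 h3; rw [h1, h2, h3]
  refine ⟨fun u => ?_, fun u => ?_, fun u => ?_⟩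
  · rw [B u, F1, F2, F1, D (e * e' * u)]
    apply E <;> grind
  · rw [C u, F1, F2, F1, C (-u)]
    apply E <;> grind
  · rw [D u, F1, F2, F1, B (e * e' * u)]
    apply E <;> grind

theorem b2l {b c d : K → G} (hb : IsAdd b) (hc : IsAdd c) (hd : IsAdd d) (φ ψ : G →* G)
    (e m m' m3 : K) (he : e * e = 1) (hm : m3 * e + m = m')
    (h1 : ∀ u, φ (b u) = b u * (c (e * u) * d (m * u ^ 2)))
    (h2 : ∀ u, φ (c u) = c u) (h3 : ∀ u, φ (d u) = d u)
    (h4 : ∀ u, ψ (b u) = b u) (h5 : ∀ u, ψ (c u) = c u * (b (-(e * u)) * d (-(m' * u ^ 2))))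
    (h6 : ∀ u, ψ (d u) = d u)
    (hbc : ∀ t u, b t * c u = c u * (d (m3 * t * u) * b t)) (hbd : ∀ t u, b t * d u = d u * b t)
    (hcd : ∀ t u, c t * d u = d u * c t) :
    (∀ u, φ (ψ (φ (b u))) = c (e * u)) ∧ (∀ u, φ (ψ (φ (c u))) = b (-(e * u))) := by
  have hbd' : ∀ t u g, d u * (b t * g) = b t * (d u * g) := by
    intro t u g; rw [← mul_assoc, ← hbd, mul_assoc]
  have hcd' : ∀ t u g, d u * (c t * g) = c t * (d u * g) := by
    intro t u g; rw [← mul_assoc, ← hcd, mul_assoc]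
  have hbc' : ∀ t u g, b t * (c u * g) = c u * (b t * (d (m3 * t * u) * g)) := by
    intro t u g; rw [← mul_assoc, hbc, mul_assoc, mul_assoc, hbd']
  have hcb' : ∀ t u g, c u * (b t * g) = b t * (c u * (d (-(m3 * t * u)) * g)) := by
    intro t u g
    rw [hbc', hd.mul', add_neg_cancel, hd.zero, one_mul]
  refine ⟨fun u => ?_, fun u => ?_⟩
  · rw [h1]
    simp only [map_mul (f := ψ), h4, h5, h6, mul_assoc]
    rw [hbc', hbd', hb.mul', hd.mul', hd.mul]
    have e1 : u + -(e * (e * u)) = 0 := by grind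
    have e2 : m3 * u * (e * u) + -(m' * (e * u) ^ 2) + m * u ^ 2 = 0 := by grind
    rw [e1, e2, hb.zero, hd.zero, one_mul, mul_one, h2]
  · rw [h2, h5]
    simp only [map_mul, h1, h2, h3, mul_assoc]
    rw [hcb', hcd', hc.mul', hd.mul', hd.mul]
    have e1 : u + e * -(e * u) = 0 := by grind
    have e2 : -(m3 * -(e * u) * u) + m * (-(e * u)) ^ 2 + -(m' * u ^ 2) = 0 := by grind
    rw [e1, e2, hc.zero, hd.zero, one_mul, mul_one]

end Cfsg.Agent.H5.CT1
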