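import Cfsg.Agent.H5.CT1

set_option autoImplicit false

/-! Table-driven derivation of the conjugation formulas for the elements `n_j`. -/

namespace Cfsg.Agent.H5.CT2
open Cfsg.Agent.H5.CT1

noncomputable section

abbrev Tm := ℕ × ℤ × ℕ × ℕ

def allLt (n : ℕ) (p : ℕ → Bool) : Bool := Nat.rec true (fun k ih => p k && ih) n

def anyLt (n : ℕ) (p : ℕ → Bool) : Bool := Nat.rec false (fun k ih => p k || ih) n

theorem allLt_iff (n : ℕ) (p : ℕ → Bool) : allLt n p = true ↔ ∀ k < n, p k = true := by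
  induction n with
  | zero => simp [allLt]
  | succ n ih =>
    have : allLt (n + 1) p = (p n && allLt n p) := rfl
    rw [this, Bool.and_eq_true, ih]
    constructor
    · rintro ⟨h1, h2⟩ k hk
      rcases Nat.lt_succ_iff_lt_or_eq.mp hk with h | h
      · exact h2 k h
      · exact h ▸ h1
    · intro h
      exact ⟨h n (Nat.lt_succ_self n), fun k hk => h k (Nat.lt_succ_of_lt hk)⟩

theorem anyLt_iff (n : ℕ) (p : ℕ → Bool) : anyLt n p = true ↔ ∃ k < n, p k = true := by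
  induction n with
  | zero => simp [anyLt]
  | succ n ih =>
    have : anyLt (n + 1) p = (p n || anyLt n p) := rfl
    rw [this, Bool.or_eq_true, ih]
    constructor
    · rintro (h | ⟨k, hk, h⟩)
      · exact ⟨n, Nat.lt_succ_self n, h⟩
      · exact ⟨k, Nat.lt_succ_of_lt hk, h⟩
    · rintro ⟨k, hk, h⟩
      rcases Nat.lt_succ_iff_lt_or_eq.mp hk with h' | h'
      · exact Or.inr ⟨k, h', h⟩
      · exact Or.inl (h' ▸ h)

structure Tab where
  n : ℕ
  l : ℕ
  p : ℕ → ℕ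
  ct : ℕ → ℕ → List Tm
  σ : ℕ → ℕ → ℕ
  η : ℕ → ℕ → Bool
  ρ : ℕ → ℕ
  tr : ℕ → ℕ
  nb : ℕ → ℕ
  r2 : ℕ → Bool
  sub : ℕ → ℕ → ℕ → Bool
  cox : ℕ → ℕ → ℕ
  d1 : ℕ → ℕ
  k1 : ℕ → ℕ
  wd : ℕ → ℕ → List ℕ

def sgZ (b : Bool) : ℤ := cond b (-1) 1

variable {G K : Type*} [Group G] [Field K]

def sg (b : Bool) (t : K) : K := cond b (-t) t

theorem sg_eq (b : Bool) (t : K) : sg b t = (sgZ b : K) * t := by
  cases b <;> simp [sg, sgZ]

theorem sg_sg (b : Bool) (t : K) : sg b (sg b t) = t := by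
  cases b <;> simp [sg]

theorem sg_sg' (b c : Bool) (t : K) : sg b (sg c t) = sg (xor b c) t := by
  cases b <;> cases c <;> simp [sg]

def wdp (X : ℕ → K → G) (L : List Tm) (t u : K) : G :=
  (L.map fun c => X c.1 ((c.2.1 : K) * (-t) ^ c.2.2.1 * u ^ c.2.2.2)).prod

namespace Tab

variable (T : Tab) (X : ℕ → K → G)

def ng (r : ℕ) : ℕ := Nat.sub (Nat.sub T.n 1) r

def Comm (r s : ℕ) : Prop :=
  ∀ t u, (X s u)⁻¹ * (X r t)⁻¹ * X s u * X r t = wdp X (T.ct r s) t u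

def nn (r : ℕ) (t : K) : G := X r t * (X (T.ng r) (-t⁻¹) * X r t)

def hh (r : ℕ) (t : K) : G := T.nn X r t * T.nn X r (-1)

def Hm (r : ℕ) : Prop := ∀ t u : K, t ≠ 0 → u ≠ 0 → T.hh X r t * T.hh X r u = T.hh X r (t * u)

def N (j : ℕ) : G := T.nn X (T.p j) 1

def P (j r : ℕ) : Prop := ∀ t, T.N X j * X r t * (T.N X j)⁻¹ = X (T.σ j r) (sg (T.η j r) t)

def Good (good : ℕ → ℕ → Bool) : Prop :=
  ∀ r s, good r s = true → T.Comm X r s ∧ IsAdd (X r) ∧ IsAdd (X s)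

def has (good : ℕ → ℕ → Bool) (r s : ℕ) (L : List Tm) : Bool := good r s && decide (T.ct r s = L)

variable {T X}

theorem Comm.conj {r s : ℕ} (h : T.Comm X r s) (ha : IsAdd (X r)) (t u : K) :
    X r t * X s u * (X r t)⁻¹ = X s u * wdp X (T.ct r s) (-t) u := by
  rw [← h, ha.neg]; group

theorem has_conj {good : ℕ → ℕ → Bool} (hg : T.Good X good) {r s : ℕ} {L : List Tm}
    (h : T.has good r s L = true) (t u : K) :
    (MulAut.conj (X r t)).toMonoidHom (X s u) = X s u * wdp X L (-t) u := by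
  simp only [has, Bool.and_eq_true, decide_eq_true_eq] at h
  obtain ⟨h1, h2, -⟩ := hg r s h.1
  rw [← h.2, ← h1.conj h2]; rfl

theorem has_add {good : ℕ → ℕ → Bool} (hg : T.Good X good) {r s : ℕ} {L : List Tm}
    (h : T.has good r s L = true) : IsAdd (X r) ∧ IsAdd (X s) := by
  simp only [has, Bool.and_eq_true, decide_eq_true_eq] at h
  exact (hg r s h.1).2

theorem has_comm {good : ℕ → ℕ → Bool} (hg : T.Good X good) {r s : ℕ}
    (h : T.has good r s [] = true) (t u : K) : X r t * X s u = X s u * X r t := by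
  have := has_conj hg h t u
  simp only [wdp, List.map_nil, List.prod_nil, mul_one, MulEquiv.toMonoidHom_eq_coe,
    MonoidHom.coe_coe, MulAut.conj_apply] at this
  exact mul_inv_eq_iff_eq_mul.mp this

theorem N_conj (j : ℕ) (g : G) : T.N X j * g * (T.N X j)⁻¹ =
    (MulAut.conj (X (T.p j) 1)).toMonoidHom ((MulAut.conj (X (T.ng (T.p j)) (-1⁻¹))).toMonoidHom
      ((MulAut.conj (X (T.p j) 1)).toMonoidHom g)) := by
  simp only [N, nn, MulEquiv.toMonoidHom_eq_coe, MonoidHom.coe_coe, MulAut.conj_apply]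
  group

variable (T)

def ok0 (good : ℕ → ℕ → Bool) (j r : ℕ) : Bool :=
  T.has good (T.p j) r [] && T.has good (T.ng (T.p j)) r [] && decide (T.σ j r = r) && !T.η j r

def okA (good : ℕ → ℕ → Bool) (a b c : ℕ) (e : ℤ) : Bool :=
  T.has good a b [(c, e, 1, 1)] && T.has good a c [] && T.has good (T.ng a) b [] &&
    T.has good (T.ng a) c [(b, e, 1, 1)] && T.has good b c [] && decide (e * e = 1)

def okS (good : ℕ → ℕ → Bool) (a b c d : ℕ) (e e' : ℤ) : Bool :=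
  T.has good a b [(c, e, 1, 1), (d, e * e', 2, 1)] && T.has good a c [(d, 2 * e', 1, 1)] &&
    T.has good a d [] && T.has good (T.ng a) b [] && T.has good (T.ng a) c [(b, 2 * e, 1, 1)] &&
    T.has good (T.ng a) d [(c, e', 1, 1), (b, e * e', 2, 1)] && T.has good b c [] &&
    T.has good b d [] && T.has good c d [] && decide (e * e = 1) && decide (e' * e' = 1)

def okL (good : ℕ → ℕ → Bool) (a b c d : ℕ) (e m m' m3 : ℤ) : Bool :=
  T.has good a b [(c, e, 1, 1), (d, m, 1, 2)] && T.has good a c [] &&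
    T.has good a d [] && T.has good (T.ng a) b [] &&
    T.has good (T.ng a) c [(b, e, 1, 1), (d, m', 1, 2)] &&
    T.has good (T.ng a) d [] && T.has good b c [(d, m3, 1, 1)] &&
    T.has good b d [] && T.has good c d [] && decide (e * e = 1) && decide (m3 * e + m = m')

variable {T}

theorem ok0_P {good : ℕ → ℕ → Bool} (hg : T.Good X good) {j r : ℕ} (h : T.ok0 good j r = true) :
    T.P X j r := by
  simp only [ok0, Bool.and_eq_true, decide_eq_true_eq, Bool.not_eq_true'] at h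
  obtain ⟨⟨⟨h1, h2⟩, h3⟩, h4⟩ := h
  intro t
  rw [N_conj, has_conj hg h1]
  simp only [wdp, List.map_nil, List.prod_nil, mul_one]
  rw [has_conj hg h2]
  simp only [wdp, List.map_nil, List.prod_nil, mul_one]
  rw [has_conj hg h1, h3, h4]
  simp only [wdp, List.map_nil, List.prod_nil, mul_one, sg, cond_false]

theorem okA_P {good : ℕ → ℕ → Bool} (hg : T.Good X good) {j b c : ℕ} {e : ℤ}
    (h : T.okA good (T.p j) b c e = true) :
    (∀ u, T.N X j * X b u * (T.N X j)⁻¹ = X c (e * u)) ∧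
      (∀ u, T.N X j * X c u * (T.N X j)⁻¹ = X b (-(e * u))) := by
  simp only [okA, Bool.and_eq_true, decide_eq_true_eq] at h
  obtain ⟨⟨⟨⟨⟨h1, h2⟩, h3⟩, h4⟩, h5⟩, h6⟩ := h
  simp only [N_conj]
  refine a2 (has_add hg h5).1 (has_add hg h5).2 _ _ (e : K) (by exact_mod_cast congrArg (Int.cast : ℤ → K) h6)
    (fun u => ?_) (fun u => ?_) (fun u => ?_) (fun u => ?_) (has_comm hg h5)
  · rw [has_conj hg h1]; simp [wdp]
  · rw [has_conj hg h2]; simp [wdp]
  · rw [has_conj hg h3]; simp [wdp]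
  · rw [has_conj hg h4]; simp [wdp]

theorem okS_P {good : ℕ → ℕ → Bool} (hg : T.Good X good) {j b c d : ℕ} {e e' : ℤ}
    (h : T.okS good (T.p j) b c d e e' = true) :
    (∀ u, T.N X j * X b u * (T.N X j)⁻¹ = X d (e * e' * u)) ∧
      (∀ u, T.N X j * X c u * (T.N X j)⁻¹ = X c (-u)) ∧
      (∀ u, T.N X j * X d u * (T.N X j)⁻¹ = X b (e * e' * u)) := by
  simp only [okS, Bool.and_eq_true, decide_eq_true_eq] at h
  obtain ⟨⟨⟨⟨⟨⟨⟨⟨⟨⟨h1, h2⟩, h3⟩, h4⟩, h5⟩, h6⟩, h7⟩, h8⟩, h9⟩, h10⟩, h11⟩ := h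
  simp only [N_conj]
  refine b2s (has_add hg h7).1 (has_add hg h7).2 (has_add hg h8).2 _ _ (e : K) (e' : K)
    (by exact_mod_cast congrArg (Int.cast : ℤ → K) h10)
    (by exact_mod_cast congrArg (Int.cast : ℤ → K) h11)
    (fun u => ?_) (fun u => ?_) (fun u => ?_) (fun u => ?_) (fun u => ?_) (fun u => ?_)
    (has_comm hg h7) (has_comm hg h8) (has_comm hg h9)
  · rw [has_conj hg h1]; simp [wdp]
  · rw [has_conj hg h2]; simp [wdp]
  · rw [has_conj hg h3]; simp [wdp]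
  · rw [has_conj hg h4]; simp [wdp]
  · rw [has_conj hg h5]; simp [wdp]
  · rw [has_conj hg h6]; simp [wdp]

theorem okL_P {good : ℕ → ℕ → Bool} (hg : T.Good X good) {j b c d : ℕ} {e m m' m3 : ℤ}
    (h : T.okL good (T.p j) b c d e m m' m3 = true) :
    (∀ u, T.N X j * X b u * (T.N X j)⁻¹ = X c (e * u)) ∧
      (∀ u, T.N X j * X c u * (T.N X j)⁻¹ = X b (-(e * u))) := by
  simp only [okL, Bool.and_eq_true, decide_eq_true_eq] at h
  obtain ⟨⟨⟨⟨⟨⟨⟨⟨⟨⟨h1, h2⟩, h3⟩, h4⟩, h5⟩, h6⟩, h7⟩, h8⟩, h9⟩, h10⟩, h11⟩ := h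
  simp only [N_conj]
  refine b2l (has_add hg h7).1 (has_add hg h7).2 (has_add hg h8).2 _ _ (e : K) (m : K) (m' : K)
    (m3 : K) (by exact_mod_cast congrArg (Int.cast : ℤ → K) h10)
    (by exact_mod_cast congrArg (Int.cast : ℤ → K) h11)
    (fun u => ?_) (fun u => ?_) (fun u => ?_) (fun u => ?_) (fun u => ?_) (fun u => ?_)
    (fun t u => ?_) (has_comm hg h8) (has_comm hg h9)
  · rw [has_conj hg h1]; simp [wdp]
  · rw [has_conj hg h2]; simp [wdp]
  · rw [has_conj hg h3]; simp [wdp]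
  · rw [has_conj hg h4]; simp [wdp]
  · rw [has_conj hg h5]; simp [wdp]
  · rw [has_conj hg h6]; simp [wdp]
  · have := has_conj hg h7 t u
    simp only [wdp, List.map_cons, List.map_nil, List.prod_cons, List.prod_nil, mul_one,
      MulEquiv.toMonoidHom_eq_coe, MonoidHom.coe_coe, MulAut.conj_apply, neg_neg, pow_one] at this
    rw [← mul_assoc, ← this]; group

variable (T)

def hd (L : List Tm) : ℕ := (L.headD (0, 0, 0, 0)).1
def hdM (L : List Tm) : ℤ := (L.headD (0, 0, 0, 0)).2.1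
def hd2 (L : List Tm) : ℕ := hd L.tail
def hdM2 (L : List Tm) : ℤ := hdM L.tail

/-- local derivation of the conjugation formula from root strings -/
def okLoc (good : ℕ → ℕ → Bool) (j r : ℕ) : Bool :=
  T.ok0 good j r || T.okA good (T.p j) r (T.σ j r) (sgZ (T.η j r)) ||
    T.okA good (T.p j) (T.σ j r) r (-sgZ (T.η j r)) ||
    (T.okS good (T.p j) r (hd (T.ct (T.p j) r)) (T.σ j r) (hdM (T.ct (T.p j) r))
      (hdM (T.ct (T.ng (T.p j)) (T.σ j r))) &&
      decide (hdM (T.ct (T.p j) r) * hdM (T.ct (T.ng (T.p j)) (T.σ j r)) = sgZ (T.η j r))) ||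
    (T.okS good (T.p j) (hd (T.ct (T.ng (T.p j)) r)) r (hd (T.ct (T.p j) r))
      (hdM (T.ct (T.p j) (hd (T.ct (T.ng (T.p j)) r))))
      (hdM (T.ct (T.ng (T.p j)) (hd (T.ct (T.p j) r)))) && decide (T.σ j r = r) && T.η j r) ||
    (T.okS good (T.p j) (T.σ j r) (hd (T.ct (T.ng (T.p j)) r)) r (hdM (T.ct (T.p j) (T.σ j r)))
      (hdM (T.ct (T.ng (T.p j)) r)) &&
      decide (hdM (T.ct (T.p j) (T.σ j r)) * hdM (T.ct (T.ng (T.p j)) r) = sgZ (T.η j r))) ||
    T.okL good (T.p j) r (T.σ j r) (hd2 (T.ct (T.p j) r)) (sgZ (T.η j r)) (hdM2 (T.ct (T.p j) r))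
      (hdM2 (T.ct (T.ng (T.p j)) (T.σ j r))) (hdM (T.ct r (T.σ j r))) ||
    T.okL good (T.p j) (T.σ j r) r (hd2 (T.ct (T.p j) (T.σ j r))) (-sgZ (T.η j r))
      (hdM2 (T.ct (T.p j) (T.σ j r))) (hdM2 (T.ct (T.ng (T.p j)) r)) (hdM (T.ct (T.σ j r) r))

variable {T}

theorem okLoc_P {good : ℕ → ℕ → Bool} (hg : T.Good X good) {j r : ℕ}
    (h : T.okLoc good j r = true) : T.P X j r := by
  simp only [okLoc, Bool.or_eq_true, Bool.and_eq_true, decide_eq_true_eq] at h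
  rcases h with ((((((h | h) | h) | ⟨h, h'⟩) | ⟨⟨h, h'⟩, h''⟩) | ⟨h, h'⟩) | h) | h
  · exact ok0_P hg h
  · intro t; rw [(okA_P hg h).1, sg_eq]
  · intro t; rw [(okA_P hg h).2, sg_eq]; simp
  · intro t; rw [(okS_P hg h).1, sg_eq, ← h']; simp
  · intro t; rw [(okS_P hg h).2.1, h', h'']; rfl
  · intro t; rw [(okS_P hg h).2.2, sg_eq, ← h']; simp
  · intro t; rw [(okL_P hg h).1, sg_eq]
  · intro t; rw [(okL_P hg h).2, sg_eq]; simp

end Tab

end

end Cfsg.Agent.H5.CT2
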