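import Cfsg.Agent.H5.CT2

set_option autoImplicit false

/-! Transport of relations along the conjugation formulas; the main inductions. -/

namespace Cfsg.Agent.H5.CT2
open Cfsg.Agent.H5.CT1

noncomputable section

def force {β : Type} (n : ℕ) (f : ℕ → β) : β := Nat.rec (f 0) (fun k _ => f (Nat.succ k)) n

theorem force_eq {β : Type} (n : ℕ) (f : ℕ → β) : force n f = f n := by cases n <;> rfl

def forceB {β : Type} (b : Bool) (f : Bool → β) : β := cond b (f true) (f false)

theorem forceB_eq {β : Type} (b : Bool) (f : Bool → β) : forceB b f = f b := by cases b <;> rfl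

theorem xor_false_iff' (a b : Bool) : xor a b = false ↔ a = b := by cases a <;> cases b <;> simp

def sgI (b : Bool) (z : ℤ) : ℤ := cond b (Int.neg z) z

def pw (b : Bool) (i : ℕ) : Bool := b && Nat.beq (Nat.mod i 2) 1

def compatL (f : Tm → Tm → Bool) (L : List Tm) : List Tm → Bool :=
  List.rec (fun L' => List.rec true (fun _ _ _ => false) L')
    (fun c _ ih L' => List.rec false (fun c' L'' _ => f c c' && ih L'') L') L

theorem compatL_forall₂ (f : Tm → Tm → Bool) (L L' : List Tm) (h : compatL f L L' = true) :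
    List.Forall₂ (fun c c' => f c c' = true) L L' := by
  induction L generalizing L' with
  | nil => cases L' with
    | nil => exact List.Forall₂.nil
    | cons c' L' => exact absurd h (by simp [compatL])
  | cons c L ih => cases L' with
    | nil => exact absurd h (by simp [compatL])
    | cons c' L' =>
      have : compatL f (c :: L) (c' :: L') = (f c c' && compatL f L L') := rfl
      rw [this, Bool.and_eq_true] at h
      exact List.Forall₂.cons h.1 (ih _ h.2)

variable {G K : Type*} [Group G] [Field K]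

theorem sg_pow (b : Bool) (t : K) (i : ℕ) : sg b t ^ i = sg (pw b i) (t ^ i) := by
  cases b
  · simp [sg, pw]
  · rcases Nat.even_or_odd i with h | h
    · have : Nat.mod i 2 = 0 := Nat.even_iff.mp h
      simp [sg, pw, this, h.neg_pow, Nat.beq]
    · have : Nat.mod i 2 = 1 := Nat.odd_iff.mp h
      simp [sg, pw, this, h.neg_pow]

theorem sgI_cast (b : Bool) (z : ℤ) : ((sgI b z : ℤ) : K) = sg b (z : K) := by
  cases b
  · rfl
  · show (((-z : ℤ)) : K) = -(z : K)
    simp

theorem sg_neg (b : Bool) (t : K) : -sg b t = sg b (-t) := by cases b <;> simp [sg]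

theorem sg_key (a b c : Bool) (x y z : K) :
    sg (xor a (xor b c)) x * sg b y * sg c z = sg a (x * y * z) := by
  cases a <;> cases b <;> cases c <;> simp [sg]

namespace Tab

variable (T : Tab) (X : ℕ → K → G)

def compatT (j : ℕ) (er es : Bool) (c c' : Tm) : Bool :=
  Nat.blt c.1 T.n && Nat.beq c'.1 (T.σ j c.1) && Nat.beq c'.2.2.1 c.2.2.1 &&
    Nat.beq c'.2.2.2 c.2.2.2 &&
    decide (c'.2.1 = sgI (xor (T.η j c.1) (xor (pw er c.2.2.1) (pw es c.2.2.2))) c.2.1)

def compat (j r s : ℕ) : Bool :=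
  compatL (T.compatT j (T.η j r) (T.η j s)) (T.ct r s) (T.ct (T.σ j r) (T.σ j s))

variable {T X}

theorem wdp_conj {j : ℕ} (hP : ∀ c < T.n, T.P X j c) (er es : Bool) {L L' : List Tm}
    (h : List.Forall₂ (fun c c' => T.compatT j er es c c' = true) L L') (t u : K) :
    T.N X j * wdp X L t u * (T.N X j)⁻¹ = wdp X L' (sg er t) (sg es u) := by
  induction h with
  | nil => simp [wdp]
  | @cons c c' L L' h _ ih =>
    simp only [compatT, Bool.and_eq_true, Nat.blt_eq, Nat.beq_eq, decide_eq_true_eq] at h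
    obtain ⟨⟨⟨⟨h1, h2⟩, h3⟩, h4⟩, h5⟩ := h
    simp only [wdp, List.map_cons, List.prod_cons] at ih ⊢
    rw [← ih, h2, h3, h4, h5, sgI_cast, sg_neg, sg_pow, sg_pow, sg_key, ← hP c.1 h1]
    group

theorem comm_conj {j r s : ℕ} (hr : T.P X j r) (hs : T.P X j s) (t u : K) :
    T.N X j * ((X s u)⁻¹ * (X r t)⁻¹ * X s u * X r t) * (T.N X j)⁻¹ =
      (X (T.σ j s) (sg (T.η j s) u))⁻¹ * (X (T.σ j r) (sg (T.η j r) t))⁻¹ *
        X (T.σ j s) (sg (T.η j s) u) * X (T.σ j r) (sg (T.η j r) t) := by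
  rw [← hr, ← hs]; group

theorem compat_comm {j r s : ℕ} (hP : ∀ c < T.n, T.P X j c) (hr : r < T.n) (hs : s < T.n)
    (h : T.compat j r s = true) (hC : T.Comm X (T.σ j r) (T.σ j s)) : T.Comm X r s := by
  intro t u
  have h1 := comm_conj (hP r hr) (hP s hs) t u
  rw [hC, ← wdp_conj hP _ _ (compatL_forall₂ _ _ _ h)] at h1
  exact mul_left_cancel (mul_right_cancel h1)

variable (T)

def goodCT (i k r s : ℕ) : Bool :=
  T.sub i k r && T.sub i k s && !Nat.beq s r && !Nat.beq s (T.ng r)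

def ok5' (good : ℕ → ℕ → Bool) (j r b c : ℕ) : Bool :=
  T.has good b c [(r, hdM (T.ct b c), 1, 1)] && T.okLoc good j b && T.okLoc good j c &&
    T.has good (T.σ j b) (T.σ j c)
      [(T.σ j r, sgI (xor (T.η j r) (xor (T.η j b) (T.η j c))) (hdM (T.ct b c)), 1, 1)] &&
    decide (hdM (T.ct b c) * hdM (T.ct b c) = 1)

def ok5 (j r : ℕ) : Bool :=
  T.ok5' (T.goodCT j (T.nb j)) j r (T.σ j (T.p (T.nb j))) (T.ng (T.p (T.nb j))) ||
    T.ok5' (T.goodCT j (T.nb j)) j r (T.ng (T.σ j (T.p (T.nb j)))) (T.p (T.nb j))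

def base (j r : ℕ) : Bool :=
  T.r2 r && (anyLt T.l (fun k => T.sub j k r && T.okLoc (T.goodCT j k) j r) || T.ok5 j r)

variable {T}

theorem ok5'_P {good : ℕ → ℕ → Bool} (hg : T.Good X good) {j r b c : ℕ}
    (h : T.ok5' good j r b c = true) : T.P X j r := by
  simp only [ok5', Bool.and_eq_true, decide_eq_true_eq] at h
  obtain ⟨⟨⟨⟨h1, h2⟩, h3⟩, h4⟩, h5⟩ := h
  generalize hdM (T.ct b c) = M at h1 h4 h5
  simp only [has, Bool.and_eq_true, decide_eq_true_eq] at h1 h4
  have hM : (M : K) * M = 1 := by exact_mod_cast congrArg (Int.cast : ℤ → K) h5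
  intro v
  have e1 := (hg _ _ h1.1).1 (-(M * v)) 1
  have e2 := comm_conj (okLoc_P hg h2) (okLoc_P hg h3) (-(M * v)) 1
  rw [e1, (hg _ _ h4.1).1, h1.2, h4.2] at e2
  simp only [wdp, List.map_cons, List.map_nil, List.prod_cons, List.prod_nil, mul_one, pow_one,
    neg_neg, sgI_cast, sg_neg, sg_key] at e2
  rw [← mul_assoc (M : K), hM, one_mul] at e2
  exact e2

theorem base_P (hg : ∀ i k, T.Good X (T.goodCT i k)) {j r : ℕ} (h : T.base j r = true) :
    T.P X j r := by
  simp only [base, ok5, Bool.and_eq_true, Bool.or_eq_true, anyLt_iff] at h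
  rcases h.2 with ⟨k, -, -, h⟩ | h | h
  · exact okLoc_P (hg _ _) h
  · exact ok5'_P (hg _ _) h
  · exact ok5'_P (hg _ _) h

variable (T X)

def act (w : List ℕ) (r : ℕ) : ℕ := List.rec r (fun j _ ih => T.σ j ih) w

def sgw (w : List ℕ) (r : ℕ) : Bool := List.rec false (fun j w ih => xor (T.η j (T.act w r)) ih) w

def pwb (f : ℕ → ℕ → Bool) (w : List ℕ) (r : ℕ) : Bool :=
  List.rec true (fun j w ih => f j (T.act w r) && ih) w

def Nw (w : List ℕ) : G := (w.map (T.N X)).prod

variable {T X}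

theorem Nw_cons (j : ℕ) (w : List ℕ) : T.Nw X (j :: w) = T.N X j * T.Nw X w := by simp [Nw]

theorem pwb_conj {f : ℕ → ℕ → Bool} (hf : ∀ j r, f j r = true → T.P X j r) {w : List ℕ} {r : ℕ}
    (h : T.pwb f w r = true) (t : K) :
    T.Nw X w * X r t * (T.Nw X w)⁻¹ = X (T.act w r) (sg (T.sgw w r) t) := by
  induction w with
  | nil => simp [Nw, act, sgw, sg]
  | cons j w ih =>
    have e1 : T.pwb f (j :: w) r = (f j (T.act w r) && T.pwb f w r) := rfl
    have e2 : T.act (j :: w) r = T.σ j (T.act w r) := rfl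
    have e3 : T.sgw (j :: w) r = xor (T.η j (T.act w r)) (T.sgw w r) := rfl
    rw [e1, Bool.and_eq_true] at h
    rw [e2, e3, ← sg_sg', ← hf _ _ h.1, ← ih h.2, Nw_cons]
    group

theorem nn_conj {g : G} {r r' : ℕ} {b : Bool}
    (h1 : ∀ t, g * X r t * g⁻¹ = X r' (sg b t))
    (h2 : ∀ t, g * X (T.ng r) t * g⁻¹ = X (T.ng r') (sg b t)) (t : K) :
    g * T.nn X r t * g⁻¹ = T.nn X r' (sg b t) := by
  have : (-(sg b t)⁻¹ : K) = sg b (-t⁻¹) := by cases b <;> simp [sg]
  simp only [nn]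
  rw [this, ← h1, ← h2]; group

theorem nn_neg {r : ℕ} (h1 : IsAdd (X r)) (h2 : IsAdd (X (T.ng r))) (t : K) :
    T.nn X r (-t) = (T.nn X r t)⁻¹ := by
  simp only [nn]
  rw [inv_neg, h2.neg, h1.neg]; group

def alt (m : ℕ) : ℕ → ℕ → List ℕ := Nat.rec (fun _ _ => []) (fun _ ih j k => j :: ih k j) m

variable (T)

def chkBraid (j k : ℕ) : Bool :=
  force (T.cox j k) fun m => force (cond (Nat.beq (Nat.mod m 2) 0) j k) fun a =>
    decide (j :: alt m k j = alt m j k ++ [a]) && T.pwb T.base (alt m j k) (T.p a) &&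
      T.pwb T.base (alt m j k) (T.ng (T.p a)) && decide (T.act (alt m j k) (T.p a) = T.p k) &&
      decide (T.act (alt m j k) (T.ng (T.p a)) = T.ng (T.p k)) && !T.sgw (alt m j k) (T.p a) &&
      !T.sgw (alt m j k) (T.ng (T.p a))

variable {T}

theorem braid (hg : ∀ i k, T.Good X (T.goodCT i k)) {j k : ℕ} (h : T.chkBraid j k = true) :
    T.Nw X (j :: alt (T.cox j k) k j) = T.Nw X (k :: alt (T.cox j k) j k) := by
  simp only [chkBraid, force_eq, Bool.and_eq_true, decide_eq_true_eq, Bool.not_eq_true'] at h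
  obtain ⟨⟨⟨⟨⟨⟨h1, h2⟩, h3⟩, h4⟩, h5⟩, h6⟩, h7⟩ := h
  rw [h1, Nw_cons]
  generalize cond (Nat.beq (Nat.mod (T.cox j k) 2) 0) j k = a at *
  have e := nn_conj (T := T) (X := X) (g := T.Nw X (alt (T.cox j k) j k)) (r := T.p a)
    (r' := T.p k) (b := false)
    (fun t => by rw [pwb_conj (fun _ _ => base_P hg) h2, h4, h6])
    (fun t => by rw [pwb_conj (fun _ _ => base_P hg) h3, h5, h7]) 1
  have e' : T.Nw X (alt (T.cox j k) j k ++ [a]) = T.Nw X (alt (T.cox j k) j k) * T.N X a := by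
    simp [Nw]
  rw [e']
  exact mul_inv_eq_iff_eq_mul.mp e

variable (T X)

def A (j r : ℕ) : Bool := xor (T.η j (T.σ j r)) (T.η j r)

def HA (r : ℕ) : Prop :=
  ∀ j < T.l, ∀ t, T.N X j * T.N X j * X r t * (T.N X j * T.N X j)⁻¹ = X r (sg (T.A j r) t)

def chkBasic : Bool :=
  allLt T.l fun j => Nat.blt (T.p j) T.n && T.r2 (T.p j) && T.r2 (T.ng (T.p j)) &&
    allLt T.n fun r => Nat.blt (T.σ j r) T.n && Nat.beq (T.σ j (T.σ j r)) r &&
      Nat.beq (T.σ j (T.ng r)) (T.ng (T.σ j r)) && !xor (T.η j (T.ng r)) (T.η j r)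

def chkS : Bool :=
  allLt T.l fun i => allLt T.l fun j => T.base j (T.p i) && T.base j (T.σ j (T.p i)) &&
    T.base j (T.ng (T.p i)) && T.base j (T.σ j (T.ng (T.p i)))

def known (r : ℕ) : Bool := !T.r2 r || T.base (T.tr r) (T.σ (T.tr r) r)

def chkH : Bool :=
  allLt T.n fun r => anyLt T.l (fun i => Nat.beq r (T.p i) || Nat.beq r (T.ng (T.p i))) ||
    force (T.tr r) fun k => force (T.σ k r) fun r' =>
      Nat.blt k T.l && T.known r && Nat.blt (T.ρ r') (T.ρ r) &&
        allLt T.l fun j => !xor (T.A j r) (xor (T.A j (T.p k) && T.A k r') (T.A j r'))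

def low (r k j' r' : ℕ) : Bool :=
  (Nat.blt j' T.l && Nat.blt r' T.n && Nat.blt (T.ρ r') (T.ρ r) &&
    Nat.blt (T.ρ (T.σ j' r')) (T.ρ r)) || (Nat.beq j' k && Nat.beq r' (T.σ k r))

def step (j r : ℕ) : Bool :=
  T.base j (T.σ j r) || (Nat.beq j (T.tr r) && !T.r2 r) ||
    force (T.tr r) fun k => force (T.cox j k) fun m =>
      force (T.act (k :: alt m j k).reverse r) fun r0 =>
        Nat.blt k T.l && !Nat.beq j k && T.known r && Nat.beq (T.act (alt m k j) r0) (T.σ j r) &&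
          Nat.beq (T.act (k :: alt m j k) r0) r &&
          !xor (T.sgw (j :: alt m k j) r0) (T.sgw (k :: alt m j k) r0) &&
          T.pwb (T.low r k) (alt m k j) r0 && T.pwb (T.low r k) (k :: alt m j k) r0

def chkStep : Bool :=
  allLt T.l fun j => allLt T.n fun r => Nat.blt (T.ρ r) (T.ρ (T.σ j r)) || T.step j r

def chkBr : Bool := allLt T.l fun j => allLt T.l fun k => Nat.beq j k || T.chkBraid j k

def chkT : Bool :=
  allLt T.n fun r => T.r2 r || (Nat.blt (T.tr r) T.l && Nat.blt (T.ρ (T.σ (T.tr r) r)) (T.ρ r))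

/-- the group-side hypotheses -/
structure Hyp : Prop where
  good : ∀ i k, T.Good X (T.goodCT i k)
  add2 : ∀ r < T.n, T.r2 r = true → IsAdd (X r)
  hm2 : ∀ r < T.n, T.r2 r = true → T.Hm X r
  tree : ∀ r < T.n, T.r2 r = false → T.P X (T.tr r) (T.σ (T.tr r) r)

structure Basic : Prop where
  p_lt : ∀ j < T.l, T.p j < T.n
  p_r2 : ∀ j < T.l, T.r2 (T.p j) = true
  np_r2 : ∀ j < T.l, T.r2 (T.ng (T.p j)) = true
  σ_lt : ∀ j < T.l, ∀ r < T.n, T.σ j r < T.n
  σσ : ∀ j < T.l, ∀ r < T.n, T.σ j (T.σ j r) = r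
  σ_ng : ∀ j < T.l, ∀ r < T.n, T.σ j (T.ng r) = T.ng (T.σ j r)
  η_ng : ∀ j < T.l, ∀ r < T.n, T.η j (T.ng r) = T.η j r

variable {T X}

theorem basic_of (h : T.chkBasic = true) : T.Basic := by
  simp only [chkBasic, allLt_iff, Bool.and_eq_true, Nat.blt_eq, Nat.beq_eq, Bool.not_eq_true',
    xor_false_iff'] at h
  exact ⟨fun j hj => (h j hj).1.1.1, fun j hj => (h j hj).1.1.2, fun j hj => (h j hj).1.2,
    fun j hj r hr => ((h j hj).2 r hr).1.1.1, fun j hj r hr => ((h j hj).2 r hr).1.1.2,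
    fun j hj r hr => ((h j hj).2 r hr).1.2, fun j hj r hr => ((h j hj).2 r hr).2⟩

theorem ng_lt {r : ℕ} (hr : r < T.n) : T.ng r < T.n := by
  show T.n - 1 - r < T.n
  omega

theorem known_P (H : T.Hyp X) {r : ℕ} (hr : r < T.n) (h : T.known r = true) :
    T.P X (T.tr r) (T.σ (T.tr r) r) := by
  simp only [known, Bool.or_eq_true, Bool.not_eq_true'] at h
  rcases h with h | h
  · exact H.tree r hr h
  · exact base_P H.good h

theorem HA_of_P (B : T.Basic) {j r : ℕ} (hj : j < T.l) (hr : r < T.n) (h1 : T.P X j r)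
    (h2 : T.P X j (T.σ j r)) (t : K) :
    T.N X j * T.N X j * X r t * (T.N X j * T.N X j)⁻¹ = X r (sg (T.A j r) t) := by
  have := h2 (sg (T.η j r) t)
  rw [B.σσ j hj r hr, sg_sg', ← h1] at this
  rw [A, ← this]; group

theorem flip (B : T.Basic) {j r : ℕ} (hj : j < T.l) (hr : r < T.n) (hA : T.HA X r)
    (h : T.P X j r) : T.P X j (T.σ j r) := by
  intro u
  have e1 := hA j hj (sg (T.η j r) u)
  have e2 := h (sg (T.η j r) u)
  rw [sg_sg] at e2
  rw [B.σσ j hj r hr, ← e2]
  rw [A, ← sg_sg', sg_sg] at e1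
  rw [← e1]; group

theorem allHA (H : T.Hyp X) (B : T.Basic) (hS : T.chkS = true) (hH : T.chkH = true) :
    ∀ r < T.n, T.HA X r := by
  simp only [chkS, allLt_iff, Bool.and_eq_true] at hS
  have S1 : ∀ i < T.l, T.HA X (T.p i) := fun i hi j hj =>
    HA_of_P B hj (B.p_lt i hi) (base_P H.good (hS i hi j hj).1.1.1)
      (base_P H.good (hS i hi j hj).1.1.2)
  have S2 : ∀ i < T.l, T.HA X (T.ng (T.p i)) := fun i hi j hj =>
    HA_of_P B hj (ng_lt (B.p_lt i hi)) (base_P H.good (hS i hi j hj).1.2)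
      (base_P H.good (hS i hi j hj).2)
  have Ang : ∀ j < T.l, ∀ r < T.n, T.A j (T.ng r) = T.A j r := by
    intro j hj r hr
    rw [A, A, B.σ_ng j hj r hr, B.η_ng j hj r hr, B.η_ng j hj _ (B.σ_lt j hj r hr)]
  have NN : ∀ j < T.l, ∀ k < T.l, T.N X j * T.N X j * T.N X k * (T.N X j * T.N X j)⁻¹ =
      cond (T.A j (T.p k)) (T.N X k)⁻¹ (T.N X k) := by
    intro j hj k hk
    have := nn_conj (T := T) (X := X) (g := T.N X j * T.N X j) (r := T.p k) (r' := T.p k)
      (b := T.A j (T.p k)) (S1 k hk j hj)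
      (fun t => by rw [S2 k hk j hj, Ang j hj _ (B.p_lt k hk)]) 1
    rw [show T.N X k = T.nn X (T.p k) 1 from rfl, this]
    cases T.A j (T.p k)
    · rfl
    · exact nn_neg (H.add2 _ (B.p_lt k hk) (B.p_r2 k hk))
        (H.add2 _ (ng_lt (B.p_lt k hk)) (B.np_r2 k hk)) 1
  simp only [chkH, allLt_iff, anyLt_iff, force_eq, Bool.and_eq_true, Bool.or_eq_true, Nat.blt_eq,
    Nat.beq_eq, Bool.not_eq_true', xor_false_iff'] at hH
  intro r
  induction h : T.ρ r using Nat.strong_induction_on generalizing r with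
  | _ m ih =>
    intro hr
    rcases hH r hr with ⟨i, hi, rfl | rfl⟩ | ⟨⟨⟨hk, hkn⟩, hρ⟩, hA⟩
    · exact S1 i hi
    · exact S2 i hi
    · have hP := known_P H hr hkn
      set k := T.tr r with hkdef
      set r' := T.σ k r with hr'
      have hr'n : r' < T.n := B.σ_lt k hk r hr
      have IH : T.HA X r' := ih _ (h ▸ hρ) r' rfl hr'n
      intro j hj t
      have e1 : ∀ u, X r u = T.N X k * X r' (sg (T.η k r') u) * (T.N X k)⁻¹ := by
        intro u
        rw [hP, sg_sg, hr', B.σσ k hk r hr]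
      have e2 : T.N X j * T.N X j * X r t * (T.N X j * T.N X j)⁻¹ =
          (T.N X j * T.N X j * T.N X k * (T.N X j * T.N X j)⁻¹) *
            (T.N X j * T.N X j * X r' (sg (T.η k r') t) * (T.N X j * T.N X j)⁻¹) *
            (T.N X j * T.N X j * T.N X k * (T.N X j * T.N X j)⁻¹)⁻¹ := by
        rw [e1]; group
      rw [e2, NN j hj k hk, IH j hj, hA j hj, e1]
      cases T.A j (T.p k)
      · simp only [cond_false, Bool.false_and, Bool.false_xor, sg_sg']
        rw [Bool.xor_comm]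
      · have e3 := IH k hk (sg (T.A k r') (sg (T.A j r') (sg (T.η k r') t)))
        rw [sg_sg] at e3
        simp only [cond_true, Bool.true_and]
        rw [← e3]
        have : sg (T.η k r') (sg (xor (T.A k r') (T.A j r')) t) =
            sg (T.A k r') (sg (T.A j r') (sg (T.η k r') t)) := by
          cases T.η k r' <;> cases T.A k r' <;> cases T.A j r' <;> simp [sg]
        rw [this]; group

theorem allP (H : T.Hyp X) (B : T.Basic) (hS : T.chkS = true) (hH : T.chkH = true)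
    (hBr : T.chkBr = true) (hSt : T.chkStep = true) : ∀ j < T.l, ∀ r < T.n, T.P X j r := by
  have hA := allHA H B hS hH
  simp only [chkBr, allLt_iff, Bool.or_eq_true, Nat.beq_eq] at hBr
  simp only [chkStep, allLt_iff, Bool.or_eq_true, Nat.blt_eq] at hSt
  have key : ∀ h : ℕ, ∀ j < T.l, ∀ r < T.n, T.ρ r < h → T.ρ (T.σ j r) < h → T.P X j r := by
    intro h
    induction h with
    | zero => intro j _ r _ h; omega
    | succ h ih =>
      have top : ∀ j < T.l, ∀ r < T.n, T.ρ r ≤ h → T.ρ (T.σ j r) ≤ T.ρ r → T.P X j (T.σ j r) := by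
        intro j hj r hr h1 h2
        have hs := (hSt j hj r hr).resolve_left (by omega)
        simp only [step, force_eq, Bool.and_eq_true, Bool.or_eq_true, Nat.blt_eq,
          Nat.beq_eq, Bool.not_eq_true', xor_false_iff'] at hs
        rcases hs with (hs | ⟨rfl, hs⟩) | ⟨⟨⟨⟨⟨⟨⟨hk, hjk⟩, hkn⟩, e1⟩, e2⟩, e3⟩, p1⟩, p2⟩
        · exact base_P H.good hs
        · exact H.tree r hr hs
        · have hP := known_P H hr hkn
          have hjk' : j ≠ T.tr r := by
            intro e; rw [e, Nat.beq_refl] at hjk; exact absurd hjk (by simp)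
          have hb := braid H.good ((hBr j hj _ hk).resolve_left hjk')
          have hf : ∀ j' r', T.low r (T.tr r) j' r' = true → T.P X j' r' := by
            intro j' r' hl
            simp only [low, Bool.and_eq_true, Bool.or_eq_true, Nat.blt_eq, Nat.beq_eq] at hl
            rcases hl with ⟨⟨⟨a1, a2⟩, a3⟩, a4⟩ | ⟨rfl, rfl⟩
            · exact ih j' a1 r' a2 (by omega) (by omega)
            · exact hP
          generalize T.act (T.tr r :: alt (T.cox j (T.tr r)) j (T.tr r)).reverse r = r0 at *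
          intro u
          have c1 := pwb_conj hf p1 (sg (T.sgw (alt (T.cox j (T.tr r)) (T.tr r) j) r0) u)
          have c2 := pwb_conj hf p2 (sg (T.sgw (alt (T.cox j (T.tr r)) (T.tr r) j) r0) u)
          have e4 : T.sgw (j :: alt (T.cox j (T.tr r)) (T.tr r) j) r0 =
              xor (T.η j (T.act (alt (T.cox j (T.tr r)) (T.tr r) j) r0))
                (T.sgw (alt (T.cox j (T.tr r)) (T.tr r) j) r0) := rfl
          rw [sg_sg, e1] at c1
          rw [← hb, ← e3, e2, e4, ← sg_sg', sg_sg, e1, Nw_cons] at c2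
          rw [B.σσ j hj r hr, ← c2, ← c1]; group
      intro j hj r hr h1 h2
      rcases le_or_gt (T.ρ (T.σ j r)) (T.ρ r) with h3 | h3
      · have := flip B hj (B.σ_lt j hj r hr) (hA _ (B.σ_lt j hj r hr)) (top j hj r hr (by omega) h3)
        rwa [B.σσ j hj r hr] at this
      · have := top j hj _ (B.σ_lt j hj r hr) (by omega) (by rw [B.σσ j hj r hr]; omega)
        rwa [B.σσ j hj r hr] at this
  intro j hj r hr
  exact key (T.ρ r + T.ρ (T.σ j r) + 1) j hj r hr (by omega) (by omega)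

theorem tree_ind (B : T.Basic) (hT : T.chkT = true) {Q : ℕ → Prop}
    (h0 : ∀ r < T.n, T.r2 r = true → Q r)
    (h1 : ∀ r < T.n, T.r2 r = false → T.tr r < T.l → T.ρ (T.σ (T.tr r) r) < T.ρ r →
      Q (T.σ (T.tr r) r) → Q r) : ∀ r < T.n, Q r := by
  simp only [chkT, allLt_iff, Bool.and_eq_true, Bool.or_eq_true, Nat.blt_eq] at hT
  intro r
  induction h : T.ρ r using Nat.strong_induction_on generalizing r with
  | _ m ih =>
    intro hr
    cases e : T.r2 r
    · obtain ⟨a1, a2⟩ := (hT r hr).resolve_left (by simp [e])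
      exact h1 r hr e a1 a2 (ih _ (h ▸ a2) _ rfl (B.σ_lt _ a1 r hr))
    · exact h0 r hr e

theorem allAdd (H : T.Hyp X) (B : T.Basic) (hT : T.chkT = true)
    (hP : ∀ j < T.l, ∀ r < T.n, T.P X j r) : ∀ r < T.n, IsAdd (X r) := by
  refine tree_ind B hT H.add2 fun r hr _ hk _ ih t u => ?_
  have e : sg (T.η (T.tr r) r) (t + u) = sg (T.η (T.tr r) r) t + sg (T.η (T.tr r) r) u := by
    cases T.η (T.tr r) r <;> simp [sg, add_comm]
  have h1 := hP _ hk r hr (t + u)
  rw [e, ih, ← hP _ hk r hr, ← hP _ hk r hr] at h1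
  have : T.N X (T.tr r) * X r t * (T.N X (T.tr r))⁻¹ * (T.N X (T.tr r) * X r u * (T.N X (T.tr r))⁻¹)
      = T.N X (T.tr r) * (X r t * X r u) * (T.N X (T.tr r))⁻¹ := by group
  rw [this] at h1
  exact mul_left_cancel (mul_right_cancel h1)

theorem allHm (H : T.Hyp X) (B : T.Basic) (hT : T.chkT = true)
    (hP : ∀ j < T.l, ∀ r < T.n, T.P X j r) : ∀ r < T.n, T.Hm X r := by
  have hadd := allAdd H B hT hP
  refine tree_ind B hT H.hm2 fun r hr _ hk _ ih t u ht hu => ?_
  set k := T.tr r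
  set r' := T.σ k r with hr'
  have hr'n : r' < T.n := B.σ_lt k hk r hr
  have c : ∀ t, T.N X k * T.nn X r t * (T.N X k)⁻¹ = T.nn X r' (sg (T.η k r) t) :=
    nn_conj (hP k hk r hr) (fun t => by
      rw [hP k hk _ (ng_lt hr), B.σ_ng k hk r hr, B.η_ng k hk r hr])
  have c2 : ∀ t, T.hh X r t =
      (T.N X k)⁻¹ * (T.nn X r' (sg (T.η k r) t) * T.nn X r' (sg (T.η k r) (-1))) * T.N X k := by
    intro t
    rw [← c, ← c, hh]; group
  have hn := nn_neg (T := T) (hadd r' hr'n) (hadd _ (ng_lt hr'n))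
  rw [c2, c2, c2]
  cases T.η k r
  · have := ih t u ht hu
    simp only [hh] at this
    simp only [sg, cond_false]
    rw [← this]; group
  · have := ih u t hu ht
    simp only [hh, hn] at this
    simp only [sg, cond_true, neg_neg, hn]
    rw [mul_comm u t] at this
    have e : T.nn X r' (t * u) =
        T.nn X r' u * (T.nn X r' 1)⁻¹ * (T.nn X r' t * (T.nn X r' 1)⁻¹) * T.nn X r' 1 := by
      rw [this]; group
    rw [e]; group

variable (T)

def path (w : List ℕ) : ℕ → ℕ → Bool :=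
  List.rec (fun r s => anyLt T.l fun i => anyLt T.l fun k => T.goodCT i k r s)
    (fun j _ ih r s => Nat.blt j T.l && T.compat j r s &&
      force (T.σ j r) fun r' => force (T.σ j s) fun s' => ih r' s') w

def rowC (r : ℕ) : Bool :=
  cond (Nat.beq (T.d1 r) 0)
    (allLt T.n fun s => Nat.beq s r || Nat.beq s (T.ng r) || T.path (T.wd r s) r s)
    (force (T.k1 r) fun k => force (T.σ k r) fun r' => forceB (T.η k r) fun er =>
      Nat.blt k T.l && Nat.blt (T.d1 r') (T.d1 r) &&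
        allLt T.n fun s => force (T.σ k s) fun s' =>
          compatL (T.compatT k er (T.η k s)) (T.ct r s) (T.ct r' s'))

variable {T}

theorem path_comm (H : T.Hyp X) (B : T.Basic) (hP : ∀ j < T.l, ∀ r < T.n, T.P X j r)
    (w : List ℕ) : ∀ r < T.n, ∀ s < T.n, T.path w r s = true → T.Comm X r s := by
  induction w with
  | nil =>
    intro r _ s _ h
    have e : T.path [] r s = anyLt T.l fun i => anyLt T.l fun k => T.goodCT i k r s := rfl
    simp only [e, anyLt_iff] at h
    obtain ⟨i, -, k, -, h⟩ := h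
    exact (H.good i k r s h).1
  | cons j w ih =>
    intro r hr s hs h
    have e : T.path (j :: w) r s = (Nat.blt j T.l && T.compat j r s &&
      force (T.σ j r) fun r' => force (T.σ j s) fun s' => T.path w r' s') := rfl
    simp only [e, force_eq, Bool.and_eq_true, Nat.blt_eq] at h
    obtain ⟨⟨hj, h1⟩, h2⟩ := h
    exact compat_comm (hP j hj) hr hs h1 (ih _ (B.σ_lt j hj r hr) _ (B.σ_lt j hj s hs) h2)

theorem allComm (H : T.Hyp X) (B : T.Basic) (hP : ∀ j < T.l, ∀ r < T.n, T.P X j r)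
    (hC : ∀ r < T.n, T.rowC r = true) :
    ∀ r < T.n, ∀ s < T.n, s ≠ r → s ≠ T.ng r → T.Comm X r s := by
  intro r
  induction h : T.d1 r using Nat.strong_induction_on generalizing r with
  | _ m ih =>
    intro hr s hs h1 h2
    have hc := hC r hr
    unfold rowC at hc
    cases e : Nat.beq (T.d1 r) 0
    · rw [e] at hc
      simp only [cond_false, force_eq, forceB_eq, allLt_iff, Bool.and_eq_true, Nat.blt_eq] at hc
      obtain ⟨⟨hk, hd⟩, hc⟩ := hc
      refine compat_comm (hP _ hk) hr hs (hc s hs)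
        (ih _ (h ▸ hd) _ rfl (B.σ_lt _ hk r hr) _ (B.σ_lt _ hk s hs) ?_ ?_)
      · intro e'
        apply h1
        rw [← B.σσ _ hk s hs, e', B.σσ _ hk r hr]
      · intro e'
        apply h2
        rw [← B.σσ _ hk s hs, e', ← B.σ_ng _ hk r hr, B.σσ _ hk _ (ng_lt hr)]
    · rw [e] at hc
      simp only [cond_true, allLt_iff, Bool.or_eq_true, Nat.beq_eq] at hc
      exact path_comm H B hP _ r hr s hs (((hc s hs).resolve_left (by tauto)))

end Tab

end

end Cfsg.Agent.H5.CT2
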