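import Cfsg.Agent.H4.FxH
import Cfsg.Agent.H2.E8L

/-!
Fixed points of elements of order 7 and 13 on the adjoint module of `E₈(3)`.
-/

set_option autoImplicit false
set_option maxRecDepth 100000

namespace Cfsg.Agent.H5.E13

open Cfsg.Lie Cfsg.Agent.H6.Gs Cfsg.Agent.H4 Cfsg.Agent.H4.T8

/-- test -/
noncomputable def t13 (_ V : ℕ) : Bool := Bool.rec true (Nat.ble 12 (T8.cnt 13 1 0 V)) (inv 13 V)

theorem c13 : enum 13 t13 = true := by decide +kernel

theorem e13 (x : chevE8.group (ZMod 3)) (hx : x ^ 13 = 1) : 20 ≤ dm ⊤ (rho x) 1 := by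
  obtain ⟨⟨ζ, hζ⟩, c, -, hc⟩ := tor_odd (by norm_num) (by decide) hx
  obtain ⟨q, V, h1, h2, -, h3⟩ := kac (by decide) hζ hx hc c13
  have h4 := h3 1 0 1 (by decide) (by simp)
  rw [t13, h2] at h1
  rw [pow_one, show ind 0 0 = 1 from rfl] at h4
  have := Nat.le_of_ble_eq_true h1
  omega

theorem e7' (x : chevE8.group (ZMod 3)) (hx : x ^ 7 = 1) : 38 ≤ dm ⊤ (rho x) 1 := by
  have h1 := Fx.e7 x hx
  have h2 := H2.E8L.card_mod7 (rho x) (by rw [← map_pow, hx, map_one])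
  rw [rho_dim] at h2
  by_contra h
  generalize dm ⊤ (rho x) 1 = d at *
  revert h2
  have : d < 38 := by omega
  interval_cases d <;> decide

end Cfsg.Agent.H5.E13
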