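import Cfsg.Agent.H5.MH10

set_option autoImplicit false

/-! `L₂(7)` lies in `3.A₇` inside `SU₃(5)`. -/

namespace Cfsg.Agent.H5.MH
open Cfsg Matrix Cfsg.Agent.Asch Cfsg.Agent.Form Equiv Cfsg.Agent.H5.CT2

universe u
variable {K : Type*} [Field K] {P H : Subgroup (G3 K)}

theorem perfect_X8 : Group.IsPerfect X8 := by
  have := perfect_SL3
  obtain ⟨f⟩ := iso_X8 card_PSL3
  exact Group.IsPerfect.ofSurjective (f := f.toMonoidHom) f.surjective

theorem tr_eq8 (θ ρ : X8 →* G3 K) (hθ : Function.Injective θ) (hρ : Function.Injective ρ)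
    (h1 : T (θ ⟨t8, t8_mem⟩) = T (ρ ⟨t8, t8_mem⟩)) (h2 : T (θ ⟨t8, t8_mem⟩)⁻¹ = T (ρ ⟨t8, t8_mem⟩)⁻¹) (x : X8) :
    T (θ x) = T (ρ x) := by
  have := perfect_X8
  have hd : ∀ (θ : X8 →* G3 K) x, (θ x).val.det = 1 := fun θ x =>
    det_eq_one_of_perfect (Subgroup.isPerfect_iff.1 (Group.IsPerfect.range θ)) ⟨x, rfl⟩
  rcases x8_elt x.2 with ⟨h, g, hg, e⟩ | ⟨g, hg, e | e⟩
  · have e1 : x⁻¹ = (⟨g, hg⟩ : X8) * x * (⟨g, hg⟩ : X8)⁻¹ :=
      Subtype.ext (by
        simp only [InvMemClass.coe_inv, Subgroup.coe_mul]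
        rw [eq_mul_inv_iff_mul_eq, inv_mul_eq_iff_eq_mul, ← mul_assoc, e])
    suffices ∀ θ : X8 →* G3 K, Function.Injective θ →
        T (θ x) = if x = 1 then 3 else if x ^ 2 = 1 then -1 else if x ^ 4 = 1 then 1 else 0 by
      rw [this θ hθ, this ρ hρ]
    intro θ hθ
    have i : ∀ n, θ x ^ n = 1 ↔ x ^ n = 1 := fun n => by rw [← map_pow, map_eq_one_iff θ hθ]
    split_ifs with a b c
    · rw [a, map_one, T_one]
    · exact T_invol (hd θ x) ((i 2).2 b) fun e => a (hθ (e.trans (map_one θ).symm))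
    · exact T_four (hd θ x) ((i 4).2 c) (mt (i 2).1 b) (by rw [← map_inv, e1, map_mul, map_mul, map_inv, T_conj])
    · refine T_of_cube (hd θ x) ((i 3).2 (Subtype.ext (h.resolve_right fun e => c (Subtype.ext e)))) fun e2 => b ?_
      rw [← i, sq, ← eq_inv_iff_mul_eq_one, ← map_inv, e1, map_mul, map_mul, map_inv, sc_central e2,
        mul_inv_cancel_right]
  · have : x = (⟨g, hg⟩ : X8) * ⟨t8, t8_mem⟩ * (⟨g, hg⟩ : X8)⁻¹ := Subtype.ext (eq_mul_inv_of_mul_eq e)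
    simp only [this, map_mul, map_inv, T_conj, h1]
  · have : x = (⟨g, hg⟩ : X8) * (⟨t8, t8_mem⟩ : X8)⁻¹ * (⟨g, hg⟩ : X8)⁻¹ := Subtype.ext (eq_mul_inv_of_mul_eq (by
      rw [e]; congr 1; exact eq_inv_of_mul_eq_one_left (by rw [← pow_succ, e8_1])))
    simp only [this, map_mul, map_inv, T_conj, h2]

theorem exists_section [Finite K] (hp : ⁅P, P⁆ = P) (π : bar P ≃* X8) :
    ∃ θ : X8 →* G3 K, Function.Injective θ ∧ θ.range = P ∧ ∀ a, Rp π a.1 (θ a) := by
  let ψ : P →* X8 := π.toMonoidHom.comp ((pr.comp P.subtype).codRestrict (bar P) fun x => mem_bar x.2)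
  have hψ : Function.Bijective ψ := ⟨(injective_iff_map_eq_one _).2 fun x hx => Subtype.ext
    (no_scalar hp (by rw [Nat.card_congr π.toEquiv, card_X8']; norm_num) x.2
      (congrArg Subtype.val ((map_eq_one_iff π π.injective).1 hx))), fun a => by
    obtain ⟨x, hx, e⟩ := Rp.ex π a.2
    exact ⟨⟨x, hx⟩, Subtype.ext e⟩⟩
  let e := MulEquiv.ofBijective ψ hψ
  refine ⟨P.subtype.comp e.symm.toMonoidHom, P.subtype_injective.comp e.symm.injective, ?_, fun a =>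
    ⟨(e.symm a).2, congrArg Subtype.val (e.apply_symm_apply a)⟩⟩
  rw [MonoidHom.range_comp, MonoidHom.range_eq_top.2 e.symm.surjective, ← MonoidHom.range_eq_map,
    Subgroup.range_subtype]

noncomputable section

def mt8 : ℕ := 0x5d5727a543
def pt8 : Equiv.Perm (Fin 7) := ⟨![5, 0, 4, 1, 3, 6, 2], ![1, 3, 6, 4, 2, 0, 5], by decide, by decide⟩
theorem ct8 : chkT PT LB mt8 0x5ab36ec56ae0068388f8c426399e48248d307127ca65647688a0b4a5b43779b977f9d12d2b7dc6033022d0342c13d863c42c027b1258e134131ce953992908e45eacb46c3059cf3930863941863b4f75735434e7296135054b8d9455 0xb3305 = true := by decide +kernel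
theorem qt8 : ∀ i : Fin 7, (pt8 i : ℕ) = tbn 3 0xb3305 i := by decide

def mh8 : ℕ := 0x6a09940e144
def ph8 : Equiv.Perm (Fin 7) := ⟨![0, 3, 1, 2, 5, 6, 4], ![0, 2, 3, 1, 6, 4, 5], by decide, by decide⟩
theorem ch8 : chkT PT LB mh8 0x2d0453183c25fa9541d25b6a2f3408eca64aca70d8034f55b49f12ee27613254c62101624b1d31af382ad46f2e55a289b01be645132abc6466f4e9494f5a10ebd0e825672c345616268d7d86c94730486006e24213eb87a8b59cb9d 0x135458 = true := by decide +kernel
theorem qh8 : ∀ i : Fin 7, (ph8 i : ℕ) = tbn 3 0x135458 i := by decide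

def mw8 : ℕ := 0x2c50a1619e1
def pw8 : Equiv.Perm (Fin 7) := ⟨![0, 3, 2, 1, 5, 4, 6], ![0, 3, 2, 1, 5, 4, 6], by decide, by decide⟩
theorem cw8 : chkT PT LB mw8 0x73f3edc01b8894c780a726ca3cd18ae894a76b06881cd755e0228de897610b3720229647e2a4df8e9019388aa98c36c978062b962d9adaaa8a97103a95590a5ce50b8e67643583b14a9e71865c3b4731b40afa442d0645c6737a830 0x1a5298 = true := by decide +kernel
theorem qw8 : ∀ i : Fin 7, (pw8 i : ℕ) = tbn 3 0x1a5298 i := by decide

def R8 : ℕ := 0x4826cb8a57199e43506ca11491cc0992de27d582b9d2051684184c69391173a108a18990d62380e91bc095cd5208c23090241462db45ce6d82f3182a51892a10ca0e2839ac0f7de52a904420462206a05b0e291c61651e1c18a219084190841a6e0148ef1a52f1ce4a02d3760817aa46a51deabbee0b8a98305e56040b5cc4398c58506450e0a27d44c9a960aae606312a51c6535244c1158196442982f02673532a278005c000008032a50926502eb45108c5ad219eca128335dea0252b10c57608ec981306da0e83acd1c8e395d750068c308afc058f99d60148e1c28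a2c48a17d0b8c30222362d441b0444497dc1561c49480625bd47482ef48c4793cb409058662947b0c620c8208421104413c87513c074b510841d68b9ad8c2284360059ef212dec0ab12094b810e8630e9430c5579c0965c45550640e30c6142628b0f211587e03823e44a60743055702c779326a859ae6da10746ce4360e742a7028551b2e265e690098713d2c11ef50496ab8263bb16c54d8a024f71312a182b710969a81efbe0a333c322925565c1714c6400000200802d15866061232ac482b2ac866a50663506a488e05bd23a80e3bb155111e6a186c252ea7ac620252753e63102b5835166b9b188d49bd41219d330487760ae420841210612a8b2c602115d830567790813bcd523b0724c9896540974510445d070cf2582a3bc8e09c96f11d8f1d6f30285504e6b10d6311dea056b310d5429a4620464616452142c12c4fbbd20a82ab48d4b7ca524d52063128b5ace6d9ae5826a3a98960014010060000500001c00175818a98e57b8d9714813a94aa08832c60922e283510c1a4981a5244932a21cef703a368b5a88c2b5029f710e7393c15bae4f01d6b63ee29494b1b2f7981424bc693ac142bc4409a46604b823cc2290b2518981d0582e0a228b1550813aad8f6492738062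588b82e058115434c9eb9a4061530453034a3e8420d86329e7bdc0a7dea252dec05667908ec1812b198b85128494df25be40bd5eabbd4739c0fa8d5515c1364de23c8e05c5b1759b6744267a8863282fba8e03bcea38a405a4e36556090cec11c6aa9d2090ee42b0ac0c8854812f3a86b1410d6c636736c84223044220bcce364e4ac0558116412d41514c6abbc731d40951d5302e5593eef38e4049eaf13608b3a3074069548e3b82a3aaa5719c095a9803a66a60c73528f54818caca554d404c2b0f23c38050060000020269abc53628211844419034794c690824311ec250c3a1e60130f27ade2aaea062a71759d07220d162850b0cf09a82650385100baae4f4a8610000100001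
def GR8 : ℕ := 0xb1428586784d413281c28805d5727a543

def idc : ℕ := 0x10000100001
def mu5 : ℕ := 0x10000fb02cc

def c25 (x : ℕ) : ℕ := force (m25 x x) fun y => m25 (m25 y y) x

def uni (m : ℕ) : Bool := force m fun m => allLt 3 fun i => allLt 3 fun j =>
  Nat.beq (dot3 (ent m i) (c25 (ent m j)) (ent m (Nat.add 3 i)) (c25 (ent m (Nat.add 3 j))) (ent m (Nat.add 6 i))
    (c25 (ent m (Nat.add 6 j)))) (cond (Nat.beq i j) 1 0)

theorem chkR8 : (allLt 168 fun j => force (tbn 45 R8 j) fun m => uni m && red m &&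
    (!Nat.beq (tbn 24 T8 j) (mkc 8 id) || Nat.beq m idc) && (!isSc m || Nat.beq (tbn 24 T8 j) (mkc 8 id)) &&
    allLt 3 fun k => Nat.beq (tbn 45 R8 (tbn 8 N8 (Nat.add (Nat.mul 3 j) k))) (mm (tbn 45 GR8 k) m)) = true := by
  decide +kernel

theorem chku : (allLt 105 fun j => !Nat.beq (m25 (mvc mu5 PT 1 0) (ent PT (3 * j + 1)))
    (m25 (mvc mu5 PT 1 1) (ent PT (3 * j + 0))) || !Nat.beq (m25 (mvc mu5 PT 1 0) (ent PT (3 * j + 2)))
    (m25 (mvc mu5 PT 1 2) (ent PT (3 * j + 0))) || !Nat.beq (m25 (mvc mu5 PT 1 1) (ent PT (3 * j + 2)))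
    (m25 (mvc mu5 PT 1 2) (ent PT (3 * j + 1)))) = true := by decide +kernel

end

section
variable (h5 : (5 : K) = 0) {ω : K} (hω : ω ^ 2 + ω + 1 = 0)
include h5 hω

omit h5 hω in
theorem toM_idc : toM ω idc = 1 := by
  rw [toM_of ω (a := 1) (b := 0) (c := 0) (d := 0) (e := 1) (f := 0) (g := 0) (h := 0) (i := 1) (by decide +kernel)]
  ext i j; fin_cases i <;> fin_cases j <;> simp

theorem exists_G {m n : ℕ} (h : mm m n = idc) : ∃ g : G3 K, g.val = toM ω m := by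
  have : toM ω m * toM ω n = 1 := by rw [← toM_mm h5 hω, h, toM_idc]
  exact ⟨⟨_, _, this, mul_eq_one_comm.1 this⟩, rfl⟩

theorem uni_spec {m : ℕ} (h : uni m = true) {σ : K →+* K} (hσ : ∀ a, σ a = a ^ 5) :
    (toM ω m)ᵀ * 1 * (toM ω m).map σ = 1 := by
  simp only [uni, force_eq, allLt_iff, Nat.beq_eq] at h
  have c : ∀ x, ev ω (c25 x) = σ (ev ω x) := fun x => by
    simp only [c25, force_eq, ev_m25 h5 hω, hσ]; ring
  ext i j
  have := congrArg (ev ω) (h i i.2 j j.2)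
  rw [ev_dot3 h5 hω, c, c, c] at this
  simp only [Matrix.mul_one, Matrix.mul_apply, Fin.sum_univ_three, transpose_apply, map_apply, toM, of_apply]
  refine Eq.trans (by simp) (this.trans ?_)
  fin_cases i <;> fin_cases j <;> simp [Nat.beq]

theorem exists_five {m : ℕ} (h : mm m (p4 m) = idc) : ∃ g : G3 K, g.val = toM ω m ∧ g ^ 5 = 1 ∧ g.val.det = 1 := by
  obtain ⟨g, hg⟩ := exists_G h5 hω h
  have h1 : g ^ 5 = 1 := Units.ext (by
    have := congrArg (toM ω) h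
    simp only [p4, toM_mm h5 hω, toM_idc, ← hg] at this
    rw [Units.val_pow_eq_pow_val, Units.val_one, ← this]; noncomm_ring)
  refine ⟨g, hg, h1, ?_⟩
  have h2 : g.val.det ^ 5 = 1 := by rw [← det_pow, ← Units.val_pow_eq_pow_val, h1]; simp
  have : (g.val.det - 1) ^ 5 = 0 := by
    linear_combination h2 + (-g.val.det ^ 4 + 2 * g.val.det ^ 3 - 2 * g.val.det ^ 2 + g.val.det) * h5
  exact sub_eq_zero.1 (pow_eq_zero_iff (by norm_num) |>.1 this)

theorem exists_model8 [Finite K] : ∃ ρ : X8 →* G3 K, Function.Injective ρ ∧ (ρ ⟨t8, t8_mem⟩).val = toM ω mt8 ∧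
    (ρ ⟨h8, h8_mem⟩).val = toM ω mh8 ∧ (ρ ⟨w8, w8_mem⟩).val = toM ω mw8 ∧
    ∀ a, ∃ m, uni m = true ∧ (ρ a).val = toM ω m := by
  obtain ⟨t, ht⟩ := exists_G h5 hω (m := mt8) (n := 0x9de6a91d83) (by decide +kernel)
  obtain ⟨h, hh⟩ := exists_G h5 hω (m := mh8) (n := 0x14794c690824) (by decide +kernel)
  obtain ⟨w, hw⟩ := exists_G h5 hω (m := mw8) (n := mw8) (by decide +kernel)
  let Γ : Subgroup (Perm (Fin 8) × G3 K) := Subgroup.closure {(t8, t), (h8, h), (w8, w)}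
  have c1 := chkN8
  have c2 := chkR8
  simp only [allLt_iff, force_eq, Bool.and_eq_true, Nat.blt_eq, Nat.beq_eq, Bool.or_eq_true, Bool.not_eq_true',
    beq_false] at c1 c2
  have key : ∀ γ ∈ Γ, ∃ j < 168, cd γ.1 = tbn 24 T8 j ∧ γ.2.val = toM ω (tbn 45 R8 j) := fun γ hγ => by
    refine closure_ind_fin (p := fun γ : Perm (Fin 8) × G3 K => ∃ j < 168, cd γ.1 = tbn 24 T8 j ∧
      γ.2.val = toM ω (tbn 45 R8 j)) ⟨0, by norm_num, show cd (1 : Perm (Fin 8)) = _ by decide +kernel, by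
        rw [show tbn 45 R8 0 = idc by decide +kernel, toM_idc]; rfl⟩ ?_ hγ
    rintro s hs y ⟨j, hj, e, e'⟩
    have k : ∀ k < 3, cd s.1 = tbn 24 G8 k → s.2.val = toM ω (tbn 45 GR8 k) → ∃ j < 168,
        cd (s * y).1 = tbn 24 T8 j ∧ (s * y).2.val = toM ω (tbn 45 R8 j) := fun k hk a b =>
      ⟨_, (c1 j hj k hk).1, by rw [(c1 j hj k hk).2, Prod.fst_mul, cd_mul h8', e, a],
        by rw [(c2 j hj).2 k hk, toM_mm h5 hω, Prod.snd_mul, Units.val_mul, e', b]⟩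
    rcases hs with rfl | rfl | rfl
    · exact k 0 (by norm_num) G8_0.symm (by rw [show tbn 45 GR8 0 = mt8 by decide +kernel, ht])
    · exact k 1 (by norm_num) G8_1.symm (by rw [show tbn 45 GR8 1 = mh8 by decide +kernel, hh])
    · exact k 2 (by norm_num) G8_2.symm (by rw [show tbn 45 GR8 2 = mw8 by decide +kernel, hw])
  have hm : Γ.map (MonoidHom.fst _ _) = X8 := by
    rw [MonoidHom.map_closure]; simp [X8, Set.image_insert_eq]
  let ψ : Γ →* X8 := ((MonoidHom.fst _ _).comp Γ.subtype).codRestrict X8 fun x => hm ▸ ⟨x.1, x.2, rfl⟩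
  have hψ : Function.Bijective ψ := ⟨(injective_iff_map_eq_one _).2 fun x hx => by
    obtain ⟨j, hj, e, e'⟩ := key x.1 x.2
    have h1 : x.1.1 = 1 := congrArg Subtype.val hx
    rw [h1, cd_one] at e
    rw [(c2 j hj).1.1.2.resolve_left (fun h => h e.symm), toM_idc] at e'
    exact Subtype.ext (Prod.ext h1 (Units.ext e')), fun a => by
    obtain ⟨x, hx, e⟩ := hm.ge a.2
    exact ⟨⟨x, hx⟩, Subtype.ext e⟩⟩
  let e := MulEquiv.ofBijective ψ hψ
  have he : ∀ γ (hγ : γ ∈ Γ) (h : γ.1 ∈ X8), e.symm ⟨γ.1, h⟩ = ⟨γ, hγ⟩ := fun γ hγ h => e.symm_apply_eq.2 rfl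
  refine ⟨(MonoidHom.snd _ _).comp (Γ.subtype.comp e.symm.toMonoidHom), (injective_iff_map_eq_one _).2 fun a ha => ?_,
    ?_, ?_, ?_, fun a => ?_⟩
  · obtain ⟨j, hj, e1, e'⟩ := key _ (e.symm a).2
    have h1 : (e.symm a).1.2 = 1 := ha
    rw [h1] at e'
    rw [(c2 j hj).1.2.resolve_left (by
      rw [Bool.not_eq_false, isSc_iff h5 hω (c2 j hj).1.1.1.2]; exact ⟨1, by rw [← e', one_smul]; rfl⟩),
      ← cd_one, cd_inj h8'] at e1
    rw [← e.apply_symm_apply a]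
    exact Subtype.ext e1
  · exact (congrArg (fun x : Γ => x.1.2.val) (he (t8, t) (Subgroup.subset_closure (by simp)) _)).trans ht
  · exact (congrArg (fun x : Γ => x.1.2.val) (he (h8, h) (Subgroup.subset_closure (by simp)) _)).trans hh
  · exact (congrArg (fun x : Γ => x.1.2.val) (he (w8, w) (Subgroup.subset_closure (by simp)) _)).trans hw
  · obtain ⟨j, hj, -, e'⟩ := key _ (e.symm a).2
    exact ⟨_, (c2 j hj).1.1.1.1, e'⟩

end

theorem le_sup_of_bar {S : Subgroup (G3 K)} (h1 : P ≤ S) (h2 : Sc K ≤ S) {h : G3 K} (hh : pr h ∈ bar P) : h ∈ S := by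
  obtain ⟨x, hx, e⟩ := hh
  have := mul_mem (h1 hx) (h2 (pr_eq_one.1 (show pr (x⁻¹ * h) = 1 by rw [map_mul, map_inv, e, inv_mul_cancel])))
  rwa [mul_inv_cancel_left] at this

theorem not_max5 {F : Type*} [Field F] [Fintype F] (hq : Fintype.card F = 5 ^ 2) [CharP F 5] {H P : Subgroup (G3 F)}
    (hH : Geo.IsMaximalIn (SU3 F 5) H) (hc : Geo.IsResidualCore H P) (h : Nat.card (PQ P) = 168) : False := by
  have hF := full_iff_absIrr.2 hc.absIrred
  have hp := hc.perfect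
  have h5 : (5 : F) = 0 := by simpa using CharP.cast_eq_zero F 5
  have h7 : (7 : F) ≠ 0 := fun e => one_ne_zero (by linear_combination 3 * e - 4 * h5 : (1 : F) = 0)
  obtain ⟨π⟩ := exists_pi8 hp h
  obtain ⟨θ, i1, i2, i3⟩ := exists_section hp π
  have hS : Sev (θ ⟨t8, t8_mem⟩) := ⟨det_eq_one_of_perfect hp (i3 _).1,
    by rw [← map_pow, show (⟨t8, t8_mem⟩ : X8) ^ 7 = 1 from Subtype.ext e8_1, map_one],
    fun e => absurd (congrArg Subtype.val (i1 (e.trans (map_one θ).symm))) (by decide), θ ⟨h8, h8_mem⟩,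
    by rw [← map_pow]; exact (i3 _).conj ((i3 _).pow 2) (i3 _) e8_2⟩
  obtain ⟨t1, t2⟩ := T_seven hS.det (hS.res (by norm_num)) (hS.inv.res (by norm_num)) fun e => h7 (hS.seven e)
  set τ := T (θ ⟨t8, t8_mem⟩) with hτ
  have hω : (2 * (τ - 1)) ^ 2 + 2 * (τ - 1) + 1 = 0 := by linear_combination 4 * t2 - (2 * τ + 1) * h5
  set ω := 2 * (τ - 1) with hω'
  obtain ⟨ρ, j1, j2, j3, j4, j5⟩ := exists_model8 h5 hω
  have tr : ∀ m, (toM ω m).trace = ev ω (a25 (a25 (ent m 0) (ent m 4)) (ent m 8)) := fun m => by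
    simp [toM, trace_fin_three, ev_a25 h5]
  obtain ⟨Q, hQ⟩ := conj_of_trace θ ρ (i2 ▸ hF) (tr_eq8 θ ρ i1 j1 (by
      rw [T, T, j2, tr, show a25 _ _ = 16 by decide +kernel, ← T, ← hτ]
      simp only [ev]; norm_num; linear_combination (1 - τ) * h5 - 3 * hω') (by
      have : (ρ ⟨t8, t8_mem⟩)⁻¹.val = toM ω 0x9de6a91d83 := by
        rw [← mul_one (ρ _)⁻¹.val, ← toM_idc (ω := ω), ← show mm mt8 0x9de6a91d83 = idc by decide +kernel,
          toM_mm h5 hω, ← j2, Units.inv_mul_cancel_left]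
      rw [show T (ρ _)⁻¹ = _ from congrArg trace this, tr, show a25 _ _ = 13 by decide +kernel]
      simp only [ev]; norm_num; linear_combination t1 - τ * h5 - 2 * hω'))
  have hσ : ∀ a, (UP hq).σ a = a ^ 5 := fun _ => rfl
  obtain ⟨c, hc'⟩ := schur_gram (S := cj Q⁻¹ '' Geo.matrixSet P) (hF.map _) (UP hq).σ (G := 1)
    (G' := Q.valᵀ * 1 * Q.val.map (UP hq).σ) (by simp) (by
      rintro _ ⟨_, ⟨x, hx, rfl⟩, rfl⟩
      obtain ⟨a, rfl⟩ := i2.ge hx
      obtain ⟨m, h1, h2⟩ := j5 a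
      have := (mem_GU3 hq).1 (hH.1.le (hc.le hx)).1
      simp only [hQ, cj_inv_cj] at this ⊢
      exact ⟨(ρ a).det_ne_zero, 1, by rw [h2, uni_spec h5 hω h1 hσ, one_smul],
        by rw [one_smul, ← cj_form' _ rfl, this]⟩)
  have su : ∀ {g : G3 F} {m}, uni m = true → g.val = toM ω m → g.val.det = 1 → Q * g * Q⁻¹ ∈ SU3 F 5 :=
    fun {g m} h1 h2 h3 => ⟨(mem_GU3 hq).2 (by
      rw [← cj_coe, cj_form' _ hc', Matrix.mul_smul, Matrix.smul_mul, h2, uni_spec h5 hω h1 hσ]),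
      mem_SL3.2 (det_conj _ h3)⟩
  let S := (T7 h5 hω Q).map (MonoidHom.fst _ _)
  have hS1 : P ≤ S := by
    rw [← i2]
    rintro _ ⟨a, rfl⟩
    have : X8 ≤ (S.comap θ).map X8.subtype := (Subgroup.closure_le _).2 (by
      rintro _ (rfl | rfl | rfl)
      · exact ⟨⟨_, t8_mem⟩, ⟨(_, pt8), mem_TT h5 hω ct8 Q (c := 1) ((hQ _).trans (by rw [j2, one_smul])) qt8, rfl⟩, rfl⟩
      · exact ⟨⟨_, h8_mem⟩, ⟨(_, ph8), mem_TT h5 hω ch8 Q (c := 1) ((hQ _).trans (by rw [j3, one_smul])) qh8, rfl⟩, rfl⟩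
      · exact ⟨⟨_, w8_mem⟩, ⟨(_, pw8), mem_TT h5 hω cw8 Q (c := 1) ((hQ _).trans (by rw [j4, one_smul])) qw8, rfl⟩, rfl⟩)
    obtain ⟨b, hb, e⟩ := this a.2
    rwa [← show b = a from Subtype.ext e]
  have hS2 : Sc F ≤ S := fun z hz => by
    obtain ⟨c, hc⟩ := mem_Sc.1 hz
    exact ⟨(z, 1), fun j => ⟨j, c, by simp [hc, Matrix.smul_mulVec], fun _ => rfl⟩, rfl⟩
  have hn : ∀ h ∈ H, pr h ∈ bar P := fun h hh => norm8 hp hF π h7 (nm_of (hc.normal h hh))
  rcases hH.2 (S ⊓ SU3 F 5) (le_inf (fun h hh => le_sup_of_bar hS1 hS2 (hn h hh)) hH.1.le) inf_le_right with e | e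
  · obtain ⟨g, g1, g2, g3⟩ := exists_five h5 hω (m := mg5) (by decide +kernel)
    have h1 := hn _ (e.le ⟨⟨(_, pg5), mem_TT h5 hω cg5 Q (g := Q * g * Q⁻¹) (c := 1) (by rw [← cj_coe, g1, one_smul]) qg5, rfl⟩,
      su (by decide +kernel) g1 g3⟩)
    have h2 : (⟨_, h1⟩ : bar P) ^ 168 = 1 := by rw [← h, ← card_bar]; exact pow_card_eq_one'
    have h3 : pr (Q * g * Q⁻¹) = 1 := eq_one_of_cop (n := 5) (congrArg Subtype.val h2)
      (by rw [← map_pow, conj_pow, g2]; simp) rfl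
    exact absurd ((Md.sc_iff h5 hω (P := Q) (m := mg5) (by rw [Md, ← cj_coe, g1]) (by decide +kernel)).1 h3)
      (by decide +kernel)
  · obtain ⟨g, g1, -, g3⟩ := exists_five h5 hω (m := mu5) (by decide +kernel)
    obtain ⟨⟨_, s⟩, h1, rfl⟩ := (e.ge (su (by decide +kernel) g1 g3)).1
    obtain ⟨j, d, h2, -⟩ := h1 1
    simp only [← cj_coe, cj_mulVec, ← Matrix.mulVec_smul] at h2
    have h3 : ∀ i : Fin 3, ev ω (mvc mu5 PT 1 i.1) = d * ev ω (ent PT (3 * j + i.1)) := fun i => by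
      rw [← toM_mulVec h5 hω, ← g1]
      have := congrArg ((Q⁻¹).val *ᵥ ·) h2
      simp only [inv_mulVec_mulVec] at this
      exact congrFun this i
    have := (allLt_iff _ _).1 chku j j.2
    simp only [Bool.or_eq_true, Bool.not_eq_true', beq_false] at this
    have a0 := h3 0
    have a1 := h3 1
    have a2 := h3 2
    rcases this with (e | e) | e <;> refine e (ev_inj h5 hω (m25_lt _ _) (m25_lt _ _) ?_) <;>
      simp only [ev_m25 h5 hω] <;> simp only [Fin.val_zero, Fin.val_one, Fin.val_two] at a0 a1 a2 <;>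
      simp only [a0, a1, a2] <;> ring

theorem s5779 (hM : MHMain.{u}) {F : Type u} [Field F] [Fintype F] {q : ℕ} (hq : Fintype.card F = q ^ 2)
    (H : Subgroup (G3 F)) (hH : Geo.IsMaximalIn (SU3 F q) H) (hS : Geo.InUnitaryResidualClass H) :
    ∃ P : Subgroup (G3 F), Geo.IsResidualCore H P ∧ q.Prime ∧ CharP F q ∧
    ((Nat.card (PQ P) = 168 ∧ q ≠ 5 ∧ (q % 7 = 3 ∨ q % 7 = 5 ∨ q % 7 = 6)) ∨
     (Nonempty (PQ P ≃* A6) ∧ (q % 15 = 11 ∨ q % 15 = 14 ∨ q = 5)) ∨ (Nonempty (PQ P ≃* A7) ∧ q = 5)) := by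
  obtain ⟨P, h1, h2, h3, h4⟩ := s5779a hM hq H hH.1 hS
  refine ⟨P, h1, h2, h3, h4.imp_left fun h => ⟨h.1, ?_, h.2⟩⟩
  rintro rfl
  exact not_max5 hq hH h1 h.1

end Cfsg.Agent.H5.MH
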