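import Cfsg.Agent.H5.MH25

set_option autoImplicit false
set_option maxRecDepth 100000

/-! The group `3·A₇` in `SU₃(5)`: identification from four generators. -/

namespace Cfsg.Agent.H5.MH
open Cfsg Matrix Cfsg.Agent.H5.CT2 Cfsg.Agent.Asch

noncomputable section

def PT : ℕ := 0x53018602fc05d80ab012e020c06b70a6e125821b06f509ea1c5032a06340b68165026a04140ce615cc34905f20aa412c834884b10e201340387864f0b1e133c38704ce0d1a12b434605ec0a9812b0335856b0e1419282c504ca0dd213a424404280d4e149c34306060bcc17182a304a6080c1c1432286250b4a161426284050d881410242046408881090202048308c6110c211848208c4110821106c10a021204230844108421004380068009801280240042008001c0414080c101420204010800100400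
def LB : ℕ := 0x686455925b1294d13991552711a4c91dc18aca85628d4a6b1613318b261d84c9ac4352958b516261d18b52547325153c250d9515c32b0998b12da24cc99c05c370d05a3270c9c3168da34d04d1d898671613590e07a4a55515950387

def md1 : ℕ := 0x10000400004
def pd1 : Equiv.Perm (Fin 7) := ⟨![0, 1, 2, 6, 5, 4, 3], ![0, 1, 2, 6, 5, 4, 3], by decide, by decide⟩
theorem cd1 : chkT PT LB md1 0x63cb933e6d18b061bd7ee5dad5ec59b56ead3a93e851a53674b991e449951634388fe04184f5f3974ede3770d5b3368b57ae62c192c4c9d42954ad2a3487d0214478d1b3874b173064a1520449131e3058e1a245080a10386040c080 0xe5c88 = true := by decide +kernel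
theorem qd1 : ∀ i : Fin 7, (pd1 i : ℕ) = tbn 3 0xe5c88 i := by decide

def md2 : ℕ := 0x40000400001
def pd2 : Equiv.Perm (Fin 7) := ⟨![0, 1, 2, 5, 6, 3, 4], ![0, 1, 2, 5, 6, 3, 4], by decide, by decide⟩
theorem cd2 : chkT PT LB md2 0x2d5eb98b064b19b46ad9bb84c9d42954ad2bd7cfe041850e2458ce5d3b792e64d9d3e851a54ea47912655cbb7afe0c38f2e4cf9b462ad5ec59b56ea942a40892263cb173064d1b38751a43e810a23c3058e1a245080e182840608080 0x11ea88 = true := by decide +kernel
theorem qd2 : ∀ i : Fin 7, (pd2 i : ℕ) = tbn 3 0x11ea88 i := by decide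

def mz : ℕ := 0x180000500001
def pz : Equiv.Perm (Fin 7) := ⟨![1, 2, 0, 3, 4, 5, 6], ![2, 0, 1, 3, 4, 5, 6], by decide, by decide⟩
theorem cz : chkT PT LB mz 0x132a48a11203eedc9731ebe5ab98af60c96336864c172d7ef4d9cfe041850e2366a74e1b35830cfa146953a9163386e892214680f9ec7933e5cda3159b15abdab7563c89329cba76f14a84c9d52b4a2c50d123070804141870c10080 0x1ac611 = true := by decide +kernel
theorem qz : ∀ i : Fin 7, (pz i : ℕ) = tbn 3 0x1ac611 i := by decide

def ms1 : ℕ := 0x12088220881
def ps1 : Equiv.Perm (Fin 7) := ⟨![0, 1, 6, 4, 3, 5, 2], ![0, 1, 6, 4, 3, 5, 2], by decide, by decide⟩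
theorem cs1 : chkT PT LB ms1 0x15bb642ccbf26ac2c6d73bb5aeb3520f530d64961734193a4641d2b14d710628b55823257e8d90db9698c758aef5050f5c844f46db76d0c3335e520537c0cd883e4c91c4204b80325b4263c74889052de4f8828820aea72b0443cd18 0xab988 = true := by decide +kernel
theorem qs1 : ∀ i : Fin 7, (ps1 i : ℕ) = tbn 3 0xab988 i := by decide

def ms4 : ℕ := 0x11044108422
def ps4 : Equiv.Perm (Fin 7) := ⟨![0, 1, 5, 3, 6, 2, 4], ![0, 1, 5, 3, 6, 2, 4], by decide, by decide⟩
theorem cs4 : chkT PT LB ms4 0x36b431d4f573a1604c52b87479c74bbaf9fbd6531486c98a4d2b0b26c86f012b173860c6ab5aa2a0b961b88fa0a84614e23316a124ac6f28ae1b7e2adb60909b1e28e884048c192e01ade12680903f653e65e7899cb941db40688896 0x116748 = true := by decide +kernel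
theorem qs4 : ∀ i : Fin 7, (ps4 i : ℕ) = tbn 3 0x116748 i := by decide

def mg5 : ℕ := 0xb93ee3900f3
def pg5 : Equiv.Perm (Fin 7) := ⟨![4, 1, 6, 2, 3, 5, 0], ![6, 1, 3, 4, 0, 5, 2], by decide, by decide⟩
theorem cg5 : chkT PT LB mg5 0x416f8eeb2a020f0e4731e21a863352758568a4aaf03e455cb5512818c394a2fc7234eb106965acdb46979d543c6452a1808200101856034fdbc53e02e7ece49b7ba13e788667127395313c82d642a2d8e2977192382e5244bbd62e07 0x2b58c = true := by decide +kernel
theorem qg5 : ∀ i : Fin 7, (pg5 i : ℕ) = tbn 3 0x2b58c i := by decide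

def me01 : ℕ := 0x1a30c22bf01
def pe01 : Equiv.Perm (Fin 7) := ⟨![4, 1, 2, 3, 0, 6, 5], ![4, 1, 2, 3, 0, 6, 5], by decide, by decide⟩
theorem ce01 : chkT PT LB me01 0x133501002c2df1a8602989c4af169fae302238348f367c5e6b28b2004a8e8a5a11a269e6293c7da76a8096c541aa92132edf0a56c980ce9a60109ad83a91a265b1445dc259ccac9ce173fd06c3b37a3a1d63b7a12722ad7d54991cc9 0x17068c = true := by decide +kernel
theorem qe01 : ∀ i : Fin 7, (pe01 i : ℕ) = tbn 3 0x17068c i := by decide

def me02 : ℕ := 0x108c2220c81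
def pe02 : Equiv.Perm (Fin 7) := ⟨![0, 1, 3, 2, 4, 6, 5], ![0, 1, 3, 2, 4, 6, 5], by decide, by decide⟩
theorem ce02 : chkT PT LB me02 0x5e0f2ee582921fd56da1d65a6167e476cb023b6399b0b32668cccde7628f1a0271b092c5c2b522faf745ac957d329a3595507819f382ac5a0488d60bda88841c04400a03644c9600615e31448d1e074a1cc724c4a1cebad281e7ce97 0x1744c8 = true := by decide +kernel
theorem qe02 : ∀ i : Fin 7, (pe02 i : ℕ) = tbn 3 0x1744c8 i := by decide

def me10 : ℕ := 0x32108321083
def pe10 : Equiv.Perm (Fin 7) := ⟨![1, 0, 5, 3, 4, 2, 6], ![1, 0, 5, 3, 4, 2, 6], by decide, by decide⟩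
theorem ce10 : chkT PT LB me10 0x23a4b202ac766bb85ad61046d33131c34d3bdad9e685783a8da88314c166e85cb5d764651acaa4f0d19460616ef078efac374b0efe657924b9aa917a6d008e9812790883268da02e04a151e480102739fca8a28f9c68ee85c0688b11 0x194741 = true := by decide +kernel
theorem qe10 : ∀ i : Fin 7, (pe10 i : ℕ) = tbn 3 0x194741 i := by decide

def me12 : ℕ := 0x20842110441
def pe12 : Equiv.Perm (Fin 7) := ⟨![0, 1, 5, 6, 4, 2, 3], ![0, 1, 5, 6, 4, 2, 3], by decide, by decide⟩
theorem ce12 : chkT PT LB me12 0x249355ce456bd74bacf5d0b7cdd2d8877f3355aa598c821e3b0c0173bc9b08238af1a7a80d6ef481b772c4b4caa0ea2d98ccc5869a7c6aa940588ece84c24c1d0479001365cca13420a151e4801026d1dd0b80d1169cfe545147ce11 0xd4d48 = true := by decide +kernel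
theorem qe12 : ∀ i : Fin 7, (pe12 i : ℕ) = tbn 3 0xd4d48 i := by decide

def me20 : ℕ := 0x3a18c3a50c3
def pe20 : Equiv.Perm (Fin 7) := ⟨![5, 2, 1, 3, 4, 0, 6], ![5, 2, 1, 3, 4, 0, 6], by decide, by decide⟩
theorem ce20 : chkT PT LB me20 0x5980b2911c68d9a216618531ceb4138e12aa1b9961852cd97463f29c88af31689a2dce671a1ce81776a4828539032c2d07dd49362e656014294e9532fc582a359649ec12828ade073cc9bb07b210636df8cbe6a2487c1a8562ee1e2a 0x184655 = true := by decide +kernel
theorem qe20 : ∀ i : Fin 7, (pe20 i : ℕ) = tbn 3 0x184655 i := by decide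

def me21 : ℕ := 0x15624129702
def pe21 : Equiv.Perm (Fin 7) := ⟨![5, 1, 2, 3, 6, 0, 4], ![5, 1, 2, 3, 6, 0, 4], by decide, by decide⟩
theorem ce21 : chkT PT LB me21 0x4b302904f21119b21f00edc4b24fadae10642a6d4a03c8bcca8d09ed088ea49e237520de3c0980076e5d074292922c3805bd9c56c1a560634c943adb612d1be5b2fee9c86b26e70a457518a34b63be9895563991c87018bd6a0f953c 0x10668d = true := by decide +kernel
theorem qe21 : ∀ i : Fin 7, (pe21 i : ℕ) = tbn 3 0x10668d i := by decide

def TB : ℕ := 0x15429a462046398ea04a8ea21585606442c96ab8263bb00000000000000000000000000000000004a8432838a0c000000000002589f77a4154a40312dea3800000000000cf21a836508000000000000000000000030a131458791e5a0482c33000000000000000000000000d49bd41219c0500001c000000000000000000000000060a333c32290155a46a5be40000000000000000000000326f11e4702f0a0c8a1c14400000000000000000000001a82650385100000000000177a8094ac430d24c0d2922000000000000140180000080000000000000000000000000000000000099cd4ca89e753e63102b5ad40a7dc43989f560ae74800000000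00000000000000000000000000000000000000000000000000000000000000000000000000000000000000000000000000000000000000000000000000000000b4561981848cab120acab2194d491304529223816f48c000000000000000000000000000000000000000000000000000000000000000000000000000000000000000000000000000000000000000005e671b27250000000000000000000000124c989654090000000000035b1845086c08f350c361280000000000001d6b63ee290000000000028578881348c0000000000050d327ae6900000000000028fa1083618c00000000000a9c0a1546cb80000000000000000000000e8da2d6a230000000000003ea35545704caa2cb180844000000000004dc0291de34800000000002e262543056e00000000000153060bcac08000000000002ac48252e040000000000000000000000000000000000e390127abc506a2cd7363178aaba818a9c62db45ce6d8000000000000000000000000000000000000000000000000000000000000000000000000000000000000000000000000000000000000000000000000000130ac3c8f0e000000000000b04d475312c932a21cef70000000000000582e0a228b000000000000b8d9714813a80000000000000000000001302e5593eef0000000000042cd736d08384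5c1702c08a0000000000000000000000000000000000000000000000000000000000000000000000000000000000000000000000000000038a405a4e3604cf510c6504000000000000000000000022b0fc07047dd8305677908000000000000000000000074510445d0700000000000000000000000b9818c4a947000000000001e423b0604ac66a50663506000000000000000000000031321ac4701c000000000013581efbca550bcc60a94620000000000007431874a18600000000000836d0741d66caacb82e298c000000000000000000000064927380625b91173a108a00000000000000000000000000000000000000000000000000000000000000000000000000000000000000000000000000000000000000000000000000001245c506a2188221023110200000000000000000000000d553a4121dc80000040100000000000004bc739280b48000000000002308c24090400000000000bac0c54c72b8000000000004108422088200000000000aa8409d56c785947870628800000000000000000000002164a31303a246f025735480000000000000000000000000000000000000000000000000000000000000000000000000000000000000000000000000000000000000000000000000001c1392de23b0841082420c20000000000000000000000544a5bd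80acc6421064210600000000000125f705587100000000000021184441902000000000000d186115f8080000000000020000200002000000000001d552b8ce04dc0b1de4c9a800000000000000000000003cc0261e4f589e9608f7a800000000000000000000000000000000000000000000000000000000000000000000000000000000000000000000000000000000000000000000000000000cc5c2894248f21d44f01d2000000000000000000000054071dd8aa88867b284a0cc000000000005092f1a4eb0000000000000000000000010435b18d9cd0000000000024177a4623ca947b0c620c8000000000008b62eb36ce880000000000000000000000c65652aa6a0000000000000167bc84b7b03851458914200000000000000000000003ea264d4b054aaa0c81c618000000000000000000000002779aa4760ca55044196300000000000000000000000000000000000000000000000000000000000000000000000000000000000000000000000000000078eb798142a8b14285867868f298d210492926a9031890000000000000000000000000000000000000000000006c5a8836088a923981325beec102f548d4eb45108c5ad000000000000000000000000000000000000000000000000000000000000000000000000000000000000000000000000000000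000000000000000000000000000000000000000000001185914850b00000000000077a815acc43c0cb2214c17800000000000002e0000040000000000009296365ef30000000000000134d5e29b140000000000030a9822981a000000000000c47b09430e80000000000000000000000541514c6abbc0000000000031cd4a3d520604b823cc228000000000030156045904a00000000000155e702597100000000000145a106131a400000000000912981d0c1500000000000000a008030000000000000063e675805238654a124ca05f42e30c0888212d3503df70000000000000000000000000000000000000000000000000000000000000000000000000000000000000000000000000000000000000000000000000000000000000001a55238ee0aa40979d435880baae4f4a87753d6310129000000000000000000000000000000000000000000000000000000000000000000000000000000000000000000000000000000000000000000000000000000000000000000000000000000000000026f92df205ea09cd621ac627aaef51ce70556090cec11c00000000000000000000000000000000000000000000272782b75c9f64211182211132f34804c3c6ce4360e74000000000000000000000008bace839106beea380ef3a8000000000000000000000053cf7b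814fbb510841d68b80000000000000000000000a816c38a4718aec11d9302400000000000000000000001c8e395d750266090eec15c00000000000000000000006c1167460e80cf2582a3bc96a600e99a988b5ace6d9ae0000000000000000000000000000000000000000000004826cb8a571a8ef55df705d6c54d8a024e05ae621cc62000000000000000000000000000000000000000000000000000000000000000000000000000000000000000000000000000000000000000000000000000000000000000000000000000000000000000000000000000000000000000000000000000000000000000000000000000000000000000000000000000000000000000000000000000000000000000000000000000000000000000000000000000000000000000000000000000000000000000000000000000000000000000000000000000000000000000000000000000000000000000000000000000000000000000000000000000000000000000000000000000000000000000000000000000000000000000000000000000000000000000000000000000000000000000000000000000000000000000000000000000000000000000000000000000000000000000000000000000000000000000000000000000000000000000000000000000000000000000000000000000000000000000000000000000000000000000000000000000000000000000000000000000000000000000000000000000000000000000000000000000000000000000000000000000000000000000000000000000000000000000000000000000000000000000000000000000000000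

def ms2 : ℕ := 0x10904020823

def ms3 : ℕ := 0x12044308880

def chkW : Bool := allLt 105 fun j => force (ent PT (Nat.mul 3 j)) fun a0 =>
  force (ent PT (Nat.add (Nat.mul 3 j) 1)) fun a1 => force (ent PT (Nat.add (Nat.mul 3 j) 2)) fun a2 =>
    Nat.blt a0 25 && Nat.blt a1 25 && Nat.blt a2 25 && (Nat.beq a0 1 || Nat.beq a1 1 || Nat.beq a2 1) &&
    allLt 105 fun k => force (ent PT (Nat.mul 3 k)) fun b0 =>
      force (ent PT (Nat.add (Nat.mul 3 k) 1)) fun b1 => force (ent PT (Nat.add (Nat.mul 3 k) 2)) fun b2 =>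
        Nat.beq j k || !Nat.beq (m25 a0 b1) (m25 a1 b0) || !Nat.beq (m25 a0 b2) (m25 a2 b0) ||
          !Nat.beq (m25 a1 b2) (m25 a2 b1)

theorem chkW_true : chkW = true := by decide +kernel

theorem lab_inj : ∀ i i' : Fin 7, allLt 105 (fun j => !xor (lab LB j i') (lab LB j i)) = true → i' = i := by
  decide +kernel

variable {K : Type*} [Field K]

theorem W_ne (ω : K) (P : G3 K) (j : Fin 105) : P.val *ᵥ wv ω PT j ≠ 0 := by
  intro h
  have h1 : wv ω PT j = 0 := by rw [← inv_mulVec_mulVec P (wv ω PT j), h, Matrix.mulVec_zero]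
  have h2 := chkW_true
  simp only [chkW, allLt_iff, force_eq, Bool.and_eq_true, Bool.or_eq_true, Nat.beq_eq] at h2
  have e0 : ev ω (ent PT (Nat.mul 3 j)) = 0 := congrFun h1 0
  have e1 : ev ω (ent PT (Nat.add (Nat.mul 3 j) 1)) = 0 := congrFun h1 1
  have e2 : ev ω (ent PT (Nat.add (Nat.mul 3 j) 2)) = 0 := congrFun h1 2
  rcases (h2 j j.2).1.2 with (e | e) | e
  · rw [e] at e0; simp at e0
  · rw [e] at e1; simp at e1
  · rw [e] at e2; simp at e2

theorem W_inj (h5 : (5 : K) = 0) {ω : K} (hω : ω ^ 2 + ω + 1 = 0) (P : G3 K) (j k : Fin 105) (c : K)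
    (h : P.val *ᵥ wv ω PT j = c • (P.val *ᵥ wv ω PT k)) : j = k := by
  have h1 : wv ω PT j = c • wv ω PT k := by
    rw [← inv_mulVec_mulVec P (wv ω PT j), h, Matrix.mulVec_smul, inv_mulVec_mulVec]
  have h2 := chkW_true
  simp only [chkW, allLt_iff, force_eq, Bool.and_eq_true, Bool.or_eq_true, Nat.beq_eq,
    Bool.not_eq_true', ← Bool.not_eq_true] at h2
  have e0 : ev ω (ent PT (Nat.mul 3 j)) = c * ev ω (ent PT (Nat.mul 3 k)) := congrFun h1 0
  have e1 : ev ω (ent PT (Nat.add (Nat.mul 3 j) 1)) = c * ev ω (ent PT (Nat.add (Nat.mul 3 k) 1)) :=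
    congrFun h1 1
  have e2 : ev ω (ent PT (Nat.add (Nat.mul 3 j) 2)) = c * ev ω (ent PT (Nat.add (Nat.mul 3 k) 2)) :=
    congrFun h1 2
  rcases (h2 j j.2).2 k k.2 with ((e | e) | e) | e
  · exact Fin.ext e
  · exact absurd (ev_inj h5 hω (m25_lt _ _) (m25_lt _ _)
      (by rw [ev_m25 h5 hω, ev_m25 h5 hω, e0, e1]; ring)) e
  · exact absurd (ev_inj h5 hω (m25_lt _ _) (m25_lt _ _)
      (by rw [ev_m25 h5 hω, ev_m25 h5 hω, e0, e2]; ring)) e
  · exact absurd (ev_inj h5 hω (m25_lt _ _) (m25_lt _ _)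
      (by rw [ev_m25 h5 hω, ev_m25 h5 hω, e1, e2]; ring)) e

/-- the graph of the action of `3·A₇` on seven letters, in the frame `P` -/
def T7 (h5 : (5 : K) = 0) {ω : K} (hω : ω ^ 2 + ω + 1 = 0) (P : G3 K) :
    Subgroup (G3 K × Equiv.Perm (Fin 7)) :=
  TT (fun j => P.val *ᵥ wv ω PT j) (fun j i => lab LB j i) (W_ne ω P) (W_inj h5 hω P)

theorem T7_scalar (h5 : (5 : K) = 0) {ω : K} (hω : ω ^ 2 + ω + 1 = 0) (P : G3 K)
    {x : G3 K × Equiv.Perm (Fin 7)} (hx : x ∈ T7 h5 hω P) (hs : x.1 ∈ Sc K) : x.2 = 1 := by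
  obtain ⟨c, hc⟩ := mem_Sc.1 hs
  ext i
  rw [Equiv.Perm.one_apply]
  congr 1
  refine lab_inj i _ ((allLt_iff _ _).2 fun j hj => ?_)
  obtain ⟨j', d, h1, h2⟩ := hx ⟨j, hj⟩
  have hc0 := ne_zero_of_eq_smul hc
  have : (⟨j, hj⟩ : Fin 105) = j' := by
    refine W_inj h5 hω P _ _ (c⁻¹ * d) ?_
    rw [← smul_smul, ← h1, hc, Matrix.smul_mulVec, Matrix.one_mulVec, smul_smul,
      inv_mul_cancel₀ hc0, one_smul]
  subst this
  rw [Bool.not_eq_true', xor_false_iff']
  exact h2 i

theorem alt_le {Q : Subgroup (Equiv.Perm (Fin 7))} (h1 : pd1 ∈ Q) (h2 : pd2 ∈ Q) (h3 : pz ∈ Q)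
    (h4 : ps1 ∈ Q ∨ ps4 ∈ Q) : alternatingGroup (Fin 7) ≤ Q := by
  have tr : ∀ b : Fin 7, ∃ g ∈ Q, g 0 = b := by
    rcases h4 with h4 | h4
    · intro b
      fin_cases b
      · exact ⟨1, one_mem _, rfl⟩
      · exact ⟨pz, h3, by decide⟩
      · exact ⟨pz * pz, mul_mem h3 h3, by decide⟩
      · exact ⟨pd1 * ps1 * pz * pz, mul_mem (mul_mem (mul_mem h1 h4) h3) h3, by decide⟩
      · exact ⟨pd2 * ps1 * pz * pz, mul_mem (mul_mem (mul_mem h2 h4) h3) h3, by decide⟩
      · exact ⟨pd2 * pd1 * ps1 * pz * pz, mul_mem (mul_mem (mul_mem (mul_mem h2 h1) h4) h3) h3, by decide⟩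
      · exact ⟨ps1 * pz * pz, mul_mem (mul_mem h4 h3) h3, by decide⟩
    · intro b
      fin_cases b
      · exact ⟨1, one_mem _, rfl⟩
      · exact ⟨pz, h3, by decide⟩
      · exact ⟨pz * pz, mul_mem h3 h3, by decide⟩
      · exact ⟨pd2 * ps4 * pz * pz, mul_mem (mul_mem (mul_mem h2 h4) h3) h3, by decide⟩
      · exact ⟨pd1 * ps4 * pz * pz, mul_mem (mul_mem (mul_mem h1 h4) h3) h3, by decide⟩
      · exact ⟨ps4 * pz * pz, mul_mem (mul_mem h4 h3) h3, by decide⟩
      · exact ⟨pd2 * pd1 * ps4 * pz * pz, mul_mem (mul_mem (mul_mem (mul_mem h2 h1) h4) h3) h3, by decide⟩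
  have : MulAction.IsPretransitive Q (Fin 7) := ⟨fun a b => by
    obtain ⟨g, hg, rfl⟩ := tr a
    obtain ⟨h, hh, rfl⟩ := tr b
    exact ⟨⟨h * g⁻¹, mul_mem hh (inv_mem hg)⟩, by simp [Subgroup.smul_def]⟩⟩
  have hp : MulAction.IsPreprimitive Q (Fin 7) :=
    MulAction.IsPreprimitive.of_prime_card (by simpa using Nat.prime_seven)
  exact Equiv.Perm.alternatingGroup_le_of_isPreprimitive_of_isThreeCycle_mem hp
    (card_support_eq_three_iff.1 (by decide)) h3

theorem cj_diag (P : G3 K) {d : Fin 3 → K} (hP : P.val = diagonal d) (M N : M3 K)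
    (h : ∀ i j, N i j * d j = d i * M i j) : N = (1 : K) • cj P M := by
  rw [one_smul, eq_comm, cj_eq_iff, hP]
  ext i j
  rw [Matrix.diagonal_mul, Matrix.mul_diagonal, h]

/-- a diagonal matrix as an element of `GL₃` -/
def dgl (d : Fin 3 → K) (hd : ∀ i, d i ≠ 0) : G3 K :=
  ⟨diagonal d, diagonal fun i => (d i)⁻¹,
    by rw [diagonal_mul_diagonal]; simp [hd], by rw [diagonal_mul_diagonal]; simp [hd]⟩

theorem ev4 (h5 : (5 : K) = 0) (ω : K) : ev ω 4 = -1 := by
  simp only [ev]; norm_num; linear_combination h5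
theorem ev2 (ω : K) : ev ω 2 = 2 := by simp only [ev]; norm_num
theorem ev3 (ω : K) : ev ω 3 = 3 := by simp only [ev]; norm_num
theorem ev5 (ω : K) : ev ω 5 = ω := by simp only [ev]; norm_num
theorem ev24 (h5 : (5 : K) = 0) {ω : K} (hω : ω ^ 2 + ω + 1 = 0) : ev ω 24 = ω ^ 2 := by
  simp only [ev]; norm_num; linear_combination (1 + ω) * h5 - hω

theorem toM_eq (ω : K) (m : ℕ) : toM ω m =
    !![ev ω (ent m 0), ev ω (ent m 1), ev ω (ent m 2); ev ω (ent m 3), ev ω (ent m 4), ev ω (ent m 5);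
      ev ω (ent m 6), ev ω (ent m 7), ev ω (ent m 8)] := by
  ext i j; fin_cases i <;> fin_cases j <;> rfl

theorem toM_of (ω : K) {m a b c d e f g h i : ℕ}
    (H : ent m 0 = a ∧ ent m 1 = b ∧ ent m 2 = c ∧ ent m 3 = d ∧ ent m 4 = e ∧ ent m 5 = f ∧
      ent m 6 = g ∧ ent m 7 = h ∧ ent m 8 = i) :
    toM ω m = !![ev ω a, ev ω b, ev ω c; ev ω d, ev ω e, ev ω f; ev ω g, ev ω h, ev ω i] := by
  obtain ⟨rfl, rfl, rfl, rfl, rfl, rfl, rfl, rfl, rfl⟩ := H
  exact toM_eq ω m

def isSc (m : ℕ) : Bool :=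
  Nat.beq (ent m 1) 0 && Nat.beq (ent m 2) 0 && Nat.beq (ent m 3) 0 && Nat.beq (ent m 5) 0 &&
    Nat.beq (ent m 6) 0 && Nat.beq (ent m 7) 0 && Nat.beq (ent m 4) (ent m 0) &&
    Nat.beq (ent m 8) (ent m 0) 

def red (m : ℕ) : Bool := allLt 9 fun k => Nat.blt (ent m k) 25

theorem isSc_iff (h5 : (5 : K) = 0) {ω : K} (hω : ω ^ 2 + ω + 1 = 0) {m : ℕ} (hm : red m = true) :
    isSc m = true ↔ ∃ c : K, toM ω m = c • (1 : M3 K) := by
  simp only [red, allLt_iff, Nat.blt_eq] at hm
  simp only [isSc, Bool.and_eq_true, Nat.beq_eq]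
  constructor
  · rintro ⟨⟨⟨⟨⟨⟨⟨h1, h2⟩, h3⟩, h4⟩, h6⟩, h7⟩, h8⟩, h9⟩
    refine ⟨ev ω (ent m 0), ?_⟩
    rw [toM_eq, h1, h2, h3, h4, h6, h7, h8, h9]
    ext i j; fin_cases i <;> fin_cases j <;> simp
  · rintro ⟨c, hc⟩
    rw [toM_eq] at hc
    have e := fun i j => congrFun (congrFun hc i) j
    have i0 : ∀ k < 9, ev ω (ent m k) = 0 → ent m k = 0 := fun k hk h =>
      ev_inj h5 hω (hm k hk) (by norm_num) (by rw [h, ev_zero])
    have e0 : ev ω (ent m 0) = c := by simpa using e 0 0
    refine ⟨⟨⟨⟨⟨⟨⟨i0 _ (by norm_num) (by simpa using e 0 1), i0 _ (by norm_num) (by simpa using e 0 2)⟩,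
      i0 _ (by norm_num) (by simpa using e 1 0)⟩, i0 _ (by norm_num) (by simpa using e 1 2)⟩,
      i0 _ (by norm_num) (by simpa using e 2 0)⟩, i0 _ (by norm_num) (by simpa using e 2 1)⟩,
      ev_inj h5 hω (hm _ (by norm_num)) (hm _ (by norm_num)) ?_⟩,
      ev_inj h5 hω (hm _ (by norm_num)) (hm _ (by norm_num)) ?_⟩
    · rw [e0]; simpa using e 1 1
    · rw [e0]; simpa using e 2 2

/-- `g` is, in the frame `P`, the model matrix `m` -/
def Md (ω : K) (P : G3 K) (g : G3 K) (m : ℕ) : Prop := g.val = cj P (toM ω m)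

theorem Md.mul (h5 : (5 : K) = 0) {ω : K} (hω : ω ^ 2 + ω + 1 = 0) {P g h : G3 K} {m n : ℕ}
    (h1 : Md ω P g m) (h2 : Md ω P h n) : Md ω P (g * h) (mm m n) := by
  unfold Md at *
  rw [Units.val_mul, h1, h2, toM_mm h5 hω, map_mul]

theorem Md.sc_iff (h5 : (5 : K) = 0) {ω : K} (hω : ω ^ 2 + ω + 1 = 0) {P g : G3 K} {m : ℕ}
    (h1 : Md ω P g m) (hm : red m = true) : pr g = 1 ↔ isSc m = true := by
  rw [isSc_iff h5 hω hm, pr_eq_one', h1]
  refine exists_congr fun c => ?_
  constructor
  · intro e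
    have := congrArg (cj P⁻¹) e
    simpa using this
  · intro e; rw [e]; simp

def p4 (x : ℕ) : ℕ := mm (mm x x) (mm x x)

def chk25 (x y : ℕ) : Bool := force x fun x => force y fun y => force (p4 x) fun x4 =>
  red x && red y && isSc (mm x4 x) && !isSc x && isSc (mm (p4 y) y) &&
    isSc (mm (mm (mm x y) x4) (p4 y)) && !isSc y && !isSc (mm y x) && !isSc (mm (mm y x) x) &&
    !isSc (mm (mm (mm y x) x) x) && !isSc (mm y x4)

theorem red_mm (a b : ℕ) : red (mm a b) = true := by
  simp only [red, allLt_iff, Nat.blt_eq]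
  intro k hk
  have := ent_mm a b ⟨k / 3, by omega⟩ ⟨k % 3, by omega⟩
  rw [show 3 * (k / 3) + k % 3 = k by omega] at this
  rw [this]; exact me_lt _ _ _ _

theorem dvd_of_chk25 (h5 : (5 : K) = 0) {ω : K} (hω : ω ^ 2 + ω + 1 = 0) {P g h : G3 K} {x y : ℕ}
    (hx : Md ω P g x) (hy : Md ω P h y) (hc : chk25 x y = true) {X : Subgroup (PG3 K)} [Finite X]
    (hg : pr g ∈ X) (hh : pr h ∈ X) : 25 ∣ Nat.card X := by
  simp only [chk25, force_eq, Bool.and_eq_true, Bool.not_eq_true', ← Bool.not_eq_true] at hc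
  obtain ⟨⟨⟨⟨⟨⟨⟨⟨⟨⟨r1, r2⟩, c1⟩, c2⟩, c3⟩, c4⟩, c5⟩, c6⟩, c7⟩, c8⟩, c9⟩ := hc
  have x4 := (hx.mul h5 hω hx).mul h5 hω (hx.mul h5 hω hx)
  have y4 := (hy.mul h5 hω hy).mul h5 hω (hy.mul h5 hω hy)
  have a1 := ((x4.mul h5 hω hx).sc_iff h5 hω (red_mm _ _)).2 c1
  have a2 := mt (hx.sc_iff h5 hω r1).1 c2
  have a3 := ((y4.mul h5 hω hy).sc_iff h5 hω (red_mm _ _)).2 c3
  have a4 := ((((hx.mul h5 hω hy).mul h5 hω x4).mul h5 hω y4).sc_iff h5 hω (red_mm _ _)).2 c4
  have a5 := mt (hy.sc_iff h5 hω r2).1 c5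
  have a6 := mt ((hy.mul h5 hω hx).sc_iff h5 hω (red_mm _ _)).1 c6
  have a7 := mt (((hy.mul h5 hω hx).mul h5 hω hx).sc_iff h5 hω (red_mm _ _)).1 c7
  have a8 := mt ((((hy.mul h5 hω hx).mul h5 hω hx).mul h5 hω hx).sc_iff h5 hω (red_mm _ _)).1 c8
  have a9 := mt ((hy.mul h5 hω x4).sc_iff h5 hω (red_mm _ _)).1 c9
  simp only [map_mul] at a1 a3 a4 a6 a7 a8 a9
  generalize pr g = u at *
  generalize pr h = w at *
  have b1 : u ^ 5 = 1 := by rw [← a1]; simp [pow_succ, mul_assoc]
  have b3 : w ^ 5 = 1 := by rw [← a3]; simp [pow_succ, mul_assoc]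
  have i1 : u * u * (u * u) = u⁻¹ := eq_inv_of_mul_eq_one_left a1
  have i3 : w * w * (w * w) = w⁻¹ := eq_inv_of_mul_eq_one_left a3
  rw [i1, i3] at a4
  refine sq_dvd_card (p := 5) (x := (⟨u, hg⟩ : X)) (y := ⟨w, hh⟩) Nat.prime_five (Subtype.ext b1)
    (fun e => a2 (congrArg Subtype.val e)) (Subtype.ext b3)
    (Subtype.ext (by
      show u * w = w * u
      rw [← mul_inv_eq_one, ← a4]; group)) fun k hk e => ?_
  have e' : w = u ^ k := congrArg Subtype.val e
  interval_cases k
  · exact a5 (by simpa using e')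
  · exact a9 (by rw [e', i1]; simp)
  · exact a8 (by rw [e', ← b1]; simp [pow_succ])
  · exact a7 (by rw [e', ← b1]; simp [pow_succ])
  · exact a6 (by rw [e', ← b1]; simp [pow_succ])

theorem bad2 : chk25 (mm (mm (mm md1 md2) ms2) md2)
    (mm (mm (mm (mm (mm (mm (mm md1 mz) ms2) md2) mz) mz) ms2) mz) = true := by decide +kernel

theorem bad3 : chk25 (mm (mm (mm (mm md1 mz) ms3) md2) ms3)
    (mm (mm (mm (mm (mm (mm md2 ms3) mz) ms3) mz) mz) ms3) = true := by decide +kernel

/-- **D4** -/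
theorem A7_of_gens (h5 : (5 : K) = 0) {ω : K} (hω : ω ^ 2 + ω + 1 = 0) (L : Subgroup (G3 K))
    (hc : Nat.card (PQ L) = 2520) {g1 g2 g3 g4 : G3 K} (m1 : g1 ∈ L ⊔ Sc K) (m2 : g2 ∈ L ⊔ Sc K)
    (m3 : g3 ∈ L ⊔ Sc K) (m4 : g4 ∈ L ⊔ Sc K) (e1 : g1.val = diagonal ![-1, -1, 1])
    (e2 : g2.val = diagonal ![1, -1, -1]) (e3 : g3.val = diagonal ![1, ω, ω ^ 2])
    {v φ : Fin 3 → K} {a : K} (e4 : g4.val = -1 + (2 : K) • vecMulVec v φ) (ha : a ^ 4 = 1)
    (h0 : v 0 * φ 0 = a) (h1 : v 1 * φ 1 = -a) (h2 : v 2 * φ 2 = 1) :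
    Nonempty (PQ L ≃* alternatingGroup (Fin 7)) := by
  have ha0 : a ≠ 0 := by rintro rfl; simp at ha
  have hv : ∀ i, v i ≠ 0 := by
    intro i e
    fin_cases i
    · exact ha0 (by rw [← h0, show v 0 = 0 from e, zero_mul])
    · exact ha0 (by rw [← neg_eq_zero, ← h1, show v 1 = 0 from e, zero_mul])
    · exact one_ne_zero (by rw [← h2, show v 2 = 0 from e, zero_mul])
  have hfin : Finite (bar L) := Nat.finite_of_card_ne_zero (by rw [card_bar, hc]; norm_num)
  have two : (2 : K) ≠ 0 := fun e => one_ne_zero (by linear_combination h5 - 2 * e : (1 : K) = 0)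
  have D1 : ∀ {d : Fin 3 → K} (hd : ∀ i, d i ≠ 0), g1.val = (1 : K) • cj (dgl d hd) (toM ω md1) := by
    intro d hd
    refine cj_diag _ rfl _ _ fun i j => ?_
    rw [e1, toM_of ω (m := md1) (a := 4) (b := 0) (c := 0) (d := 0) (e := 4) (f := 0) (g := 0)
      (h := 0) (i := 1) (by decide +kernel)]
    fin_cases i <;> fin_cases j <;> simp [ev4 h5]
  have D2 : ∀ {d : Fin 3 → K} (hd : ∀ i, d i ≠ 0), g2.val = (1 : K) • cj (dgl d hd) (toM ω md2) := by
    intro d hd
    refine cj_diag _ rfl _ _ fun i j => ?_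
    rw [e2, toM_of ω (m := md2) (a := 1) (b := 0) (c := 0) (d := 0) (e := 4) (f := 0) (g := 0)
      (h := 0) (i := 4) (by decide +kernel)]
    fin_cases i <;> fin_cases j <;> simp [ev4 h5]
  have D3 : ∀ {d : Fin 3 → K} (hd : ∀ i, d i ≠ 0), g3.val = (1 : K) • cj (dgl d hd) (toM ω mz) := by
    intro d hd
    refine cj_diag _ rfl _ _ fun i j => ?_
    rw [e3, toM_of ω (m := mz) (a := 1) (b := 0) (c := 0) (d := 0) (e := 5) (f := 0) (g := 0)
      (h := 0) (i := 24) (by decide +kernel)]
    fin_cases i <;> fin_cases j <;> simp [ev5, ev24 h5 hω, mul_comm]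
  have good : ∀ (P : G3 K) (p : Equiv.Perm (Fin 7)), (g1, pd1) ∈ T7 h5 hω P → (g2, pd2) ∈ T7 h5 hω P →
      (g3, pz) ∈ T7 h5 hω P → (g4, p) ∈ T7 h5 hω P → (p = ps1 ∨ p = ps4) →
      Nonempty (PQ L ≃* alternatingGroup (Fin 7)) := by
    intro P p t1 t2 t3 t4 hp
    let S := T7 h5 hω P ⊓ (L ⊔ Sc K).comap (MonoidHom.fst _ _)
    obtain ⟨e⟩ := iso_of_graph (pr.comp ((MonoidHom.fst _ _).comp S.subtype))
      ((MonoidHom.snd _ _).comp S.subtype)
      (fun x hx => T7_scalar h5 hω P x.2.1 (pr_eq_one.1 hx)) (bar L) (alternatingGroup (Fin 7))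
      (by rintro _ ⟨x, rfl⟩; exact mem_bar_sup x.2.2)
      (alt_le ⟨⟨_, t1, m1⟩, rfl⟩ ⟨⟨_, t2, m2⟩, rfl⟩ ⟨⟨_, t3, m3⟩, rfl⟩ (by
        rcases hp with rfl | rfl
        · exact Or.inl ⟨⟨_, t4, m4⟩, rfl⟩
        · exact Or.inr ⟨⟨_, t4, m4⟩, rfl⟩))
      (by rw [card_bar, hc, nat_card_alternatingGroup]; simp [Nat.factorial])
    exact ⟨(pqEquiv L).trans e⟩
  have bad : ¬ 25 ∣ Nat.card (bar L) := by rw [card_bar, hc]; norm_num
  have hsup : ∀ {g : G3 K}, g ∈ L ⊔ Sc K → pr g ∈ bar L := mem_bar_sup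
  have hfac : (a - 1) * (a + 1) * (a - 2) * (a + 2) = 0 := by
    linear_combination ha + (1 - a ^ 2) * h5
  simp only [mul_eq_zero] at hfac
  rcases hfac with ((hf | hf) | hf) | hf
  · have hd : ∀ i, (![v 0, 3 * v 1, v 2] : Fin 3 → K) i ≠ 0 := by
      intro i; fin_cases i
      · exact hv 0
      · exact mul_ne_zero (fun e => two (by linear_combination h5 - e)) (hv 1)
      · exact hv 2
    refine good (dgl _ hd) ps1 (mem_TT h5 hω cd1 _ (D1 hd) qd1) (mem_TT h5 hω cd2 _ (D2 hd) qd2)
      (mem_TT h5 hω cz _ (D3 hd) qz) (mem_TT h5 hω cs1 _ (cj_diag _ rfl _ _ fun i j => ?_) qs1)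
      (Or.inl rfl)
    rw [e4, toM_of ω (m := ms1) (a := 1) (b := 4) (c := 2) (d := 4) (e := 2) (f := 4) (g := 2)
      (h := 4) (i := 1) (by decide +kernel)]
    obtain rfl : a = 1 := by linear_combination hf
    fin_cases i <;> fin_cases j <;> simp [ev4 h5, ev2, vecMulVec_apply] <;> grind
  · have hd : ∀ i, (![3 * v 0, -v 1, -v 2] : Fin 3 → K) i ≠ 0 := by
      intro i; fin_cases i
      · exact mul_ne_zero (fun e => two (by linear_combination h5 - e)) (hv 0)
      · exact neg_ne_zero.2 (hv 1)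
      · exact neg_ne_zero.2 (hv 2)
    refine good (dgl _ hd) ps4 (mem_TT h5 hω cd1 _ (D1 hd) qd1) (mem_TT h5 hω cd2 _ (D2 hd) qd2)
      (mem_TT h5 hω cz _ (D3 hd) qz) (mem_TT h5 hω cs4 _ (cj_diag _ rfl _ _ fun i j => ?_) qs4)
      (Or.inr rfl)
    rw [e4, toM_of ω (m := ms4) (a := 2) (b := 1) (c := 1) (d := 1) (e := 1) (f := 2) (g := 1)
      (h := 2) (i := 1) (by decide +kernel)]
    obtain rfl : a = -1 := by linear_combination hf
    fin_cases i <;> fin_cases j <;> simp [ev2, vecMulVec_apply] <;> grind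
  · have d1 : Md ω (dgl v hv) g1 md1 := by rw [Md, D1 hv, one_smul]
    have d2 : Md ω (dgl v hv) g2 md2 := by rw [Md, D2 hv, one_smul]
    have d3 : Md ω (dgl v hv) g3 mz := by rw [Md, D3 hv, one_smul]
    have d4 : Md ω (dgl v hv) g4 ms2 := by
      rw [Md, ← one_smul K (cj _ _)]
      refine cj_diag _ rfl _ _ fun i j => ?_
      rw [e4, toM_of ω (m := ms2) (a := 3) (b := 1) (c := 2) (d := 4) (e := 0) (f := 2) (g := 4)
        (h := 1) (i := 1) (by decide +kernel)]
      obtain rfl : a = 2 := by linear_combination hf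
      fin_cases i <;> fin_cases j <;> simp [ev4 h5, ev2, ev3, vecMulVec_apply] <;> grind
    refine absurd (dvd_of_chk25 h5 hω (((d1.mul h5 hω d2).mul h5 hω d4).mul h5 hω d2)
      (((((((d1.mul h5 hω d3).mul h5 hω d4).mul h5 hω d2).mul h5 hω d3).mul h5 hω d3).mul h5 hω
        d4).mul h5 hω d3) bad2 (hsup ?_) (hsup ?_)) bad <;>
      repeat (first | assumption | apply mul_mem)
  · have d1 : Md ω (dgl v hv) g1 md1 := by rw [Md, D1 hv, one_smul]
    have d2 : Md ω (dgl v hv) g2 md2 := by rw [Md, D2 hv, one_smul]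
    have d3 : Md ω (dgl v hv) g3 mz := by rw [Md, D3 hv, one_smul]
    have d4 : Md ω (dgl v hv) g4 ms3 := by
      rw [Md, ← one_smul K (cj _ _)]
      refine cj_diag _ rfl _ _ fun i j => ?_
      rw [e4, toM_of ω (m := ms3) (a := 0) (b := 4) (c := 2) (d := 1) (e := 3) (f := 2) (g := 1)
        (h := 4) (i := 1) (by decide +kernel)]
      obtain rfl : a = -2 := by linear_combination hf
      fin_cases i <;> fin_cases j <;> simp [ev4 h5, ev2, ev3, vecMulVec_apply] <;> grind
    refine absurd (dvd_of_chk25 h5 hω ((((d1.mul h5 hω d3).mul h5 hω d4).mul h5 hω d2).mul h5 hω d4)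
      ((((((d2.mul h5 hω d4).mul h5 hω d3).mul h5 hω d4).mul h5 hω d3).mul h5 hω d3).mul h5 hω
        d4) bad3 (hsup ?_) (hsup ?_)) bad <;>
      repeat (first | assumption | apply mul_mem)

end

end Cfsg.Agent.H5.MH
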