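import Cfsg.Agent.H1.PS0

set_option autoImplicit false

/-! Package `Uc` of S0725: counting subsets that do not separate two points. -/

namespace Cfsg.Agent.H5.PSc
open MulAction Finset Cfsg.Agent.H1.PS

universe u

section
variable (G : Type u) {α : Type u} [Group G] [MulAction G α] [Fintype α] [DecidableEq α]

omit [DecidableEq α] in
theorem dd_le (a b : α) : dd G a b ≤ Fintype.card α := by
  classical
  unfold dd
  convert card_le_univ _

theorem cnt_le (i : ℕ) (a b : α) : cnt G i a b ≤ (Fintype.card α - dd G a b).choose i := by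
  classical
  have h : #{x : α | Rel G {x} a b} = Fintype.card α - dd G a b := by
    have := card_filter_add_card_filter_not (s := (univ : Finset α)) (fun x => Rel G {x} a b)
    rw [card_univ] at this
    unfold dd
    refine Nat.eq_sub_of_add_eq ?_
    convert this
  rw [← h, ← card_powersetCard]
  unfold cnt
  refine card_le_card fun X hX => ?_
  simp only [mem_filter, mem_powersetCard] at hX ⊢
  obtain ⟨⟨-, hc⟩, g, hg, hab⟩ := hX
  refine ⟨fun x hx => ?_, hc⟩
  simp only [mem_filter, mem_univ, true_and]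
  exact ⟨g, fun y hy => by rw [mem_singleton.1 hy]; exact hg x hx, hab⟩
end

theorem pu (n j : ℕ) (h : j + 1 ≤ n) :
    ((j + 1 : ℕ) : ℚ) * n.choose (j + 1) * PU n (j + 1) = (n - A0 n) * (n - 1 - d0 n).choose j := by
  induction j with
  | zero =>
    have : (n : ℚ) ≠ 0 := by exact_mod_cast (by omega : n ≠ 0)
    simp only [PU, zero_add, Nat.choose_one_right, Nat.choose_zero_right, Nat.cast_one]
    field_simp
  | succ j ih =>
    have ih := ih (by omega)
    have h1 : ((n.choose (j + 1 + 1) * (j + 1 + 1) : ℕ) : ℚ) = ((n.choose (j + 1) * (n - (j + 1)) : ℕ) : ℚ) := by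
      rw [Nat.choose_succ_right_eq]
    have h2 : (((n - 1 - d0 n).choose (j + 1) * (j + 1) : ℕ) : ℚ) =
        (((n - 1 - d0 n).choose j * (n - (j + 1) - d0 n) : ℕ) : ℚ) := by
      rw [Nat.choose_succ_right_eq]; congr 2; omega
    rw [Nat.cast_mul, Nat.cast_mul, Nat.cast_sub (by omega)] at h1
    rw [Nat.cast_mul, Nat.cast_mul] at h2
    have h3 : (n : ℚ) - (j + 1) ≠ 0 := by
      have : ((j + 1 : ℕ) : ℚ) < n := by exact_mod_cast (by omega : j + 1 < n)
      push_cast at this
      linarith
    have h4 : ((j + 1 : ℕ) : ℚ) ≠ 0 := by positivity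
    have e : PU n (j + 1 + 1) = PU n (j + 1) * ((n - (j + 1) - d0 n : ℕ) : ℚ) / (n - (j + 1)) := by
      rw [PU]
    rw [e]
    generalize ((n - (j + 1) - d0 n : ℕ) : ℚ) = r at h2 ⊢
    apply mul_left_cancel₀ h4
    rw [mul_comm ((j + 1 + 1 : ℕ) : ℚ), h1]
    push_cast at ih h2 h4 ⊢
    have h7 : ((n.choose (j + 1) : ℚ) * (n - (j + 1))) * (PU n (j + 1) * r / (n - (j + 1))) =
        n.choose (j + 1) * PU n (j + 1) * r := by field_simp
    rw [h7]
    linear_combination r * ih - (n - A0 n) * h2

theorem uc : Uc.{u} := by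
  intro G α _ _ _ _ hS hd i hi
  set n := Fintype.card α with hn
  have hc : (#(univ : Finset α).offDiag : ℚ) = n * (n - 1) := by
    rw [offDiag_card, card_univ, Nat.cast_sub (Nat.le_mul_self _)]
    push_cast; ring
  rcases i with _ | j
  · have : Sm G α 0 ≤ #(univ : Finset α).offDiag := by
      unfold Sm
      rw [card_eq_sum_ones]
      exact sum_le_sum fun p _ => (cnt_le G 0 p.1 p.2).trans (by simp)
    have h2 : (Sm G α 0 : ℚ) ≤ #(univ : Finset α).offDiag := by exact_mod_cast this
    rw [hc] at h2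
    simpa [PU] using h2
  · have h4 : (0 : ℚ) < ((j + 1 : ℕ) : ℚ) := by positivity
    have key : ∀ p ∈ (univ : Finset α).offDiag, ((j + 1 : ℕ) : ℚ) * (cnt G (j + 1) p.1 p.2 : ℚ) ≤
        ((n : ℚ) - dd G p.1 p.2) * (n - 1 - d0 n).choose j := by
      intro p hp
      have hne := (mem_offDiag.1 hp).2.2
      have a1 := cnt_le G (j + 1) p.1 p.2
      have a2 := hd _ _ hne
      have a3 := dd_le G p.1 p.2
      rw [← Nat.cast_sub a3]
      have a4 : (j + 1) * (n - dd G p.1 p.2).choose (j + 1) ≤ (n - dd G p.1 p.2) * (n - 1 - d0 n).choose j := by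
        rcases h : n - dd G p.1 p.2 with _ | m
        · simp
        · rw [mul_comm, ← Nat.add_one_mul_choose_eq]
          exact Nat.mul_le_mul_left _ (Nat.choose_le_choose _ (by omega))
      exact_mod_cast (Nat.mul_le_mul_left _ a1).trans a4
    refine le_of_mul_le_mul_left ?_ h4
    have hs := sum_le_sum key
    rw [← mul_sum, ← sum_mul, sum_sub_distrib, sum_const, nsmul_eq_mul, hc] at hs
    have e : (Sm G α (j + 1) : ℚ) = ∑ p ∈ (univ : Finset α).offDiag, (cnt G (j + 1) p.1 p.2 : ℚ) := by
      unfold Sm; push_cast; rfl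
    have h5 := pu n j hi.le
    have h6 : (0 : ℚ) ≤ (n - 1 - d0 n).choose j := by positivity
    rw [e]
    refine hs.trans ?_
    calc _ ≤ ((n : ℚ) * (n - 1) * n - n * (n - 1) * A0 n) * (n - 1 - d0 n).choose j :=
          mul_le_mul_of_nonneg_right (by linarith) h6
      _ = _ := by linear_combination (-(n : ℚ) * (n - 1)) * h5

end Cfsg.Agent.H5.PSc
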